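import Groth.Agent.Lib.LocCoh.PunctCoh27
import Groth.Agent.Lib.PunctFree27.Coherent
import Groth.Agent.Lib.LocCoh.FaltingsQuot27
import Groth.Agent.Lib.LocCohZ.DepthVanish
import Groth.Agent.Lib.WeakAss18.Iso

/-!
# Finiteness of cohomology of coherent sheaves on punctured affine schemes under depth conditions
-/

set_option autoImplicit false
set_option linter.style.haveILetI false

universe u

open CategoryTheory CategoryTheory.Limits AlgebraicGeometry Opposite

noncomputable section

namespace Groth.Agent.ComplFormalH7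

open Groth.Agent

set_option backward.isDefEq.respectTransparency false in
set_option backward.isDefEq.respectTransparency.types false in
/-- Depth of the stalks of `N~`. -/
theorem depth_tilde {R : CommRingCat.{u}} (N : ModuleCat.{u} R) (p : Spec R) :
    LocCoh.depth ((Spec R).presheaf.stalk p) ((tilde N).presheaf.stalk p) =
      LocCoh.depth (Localization.AtPrime (p : PrimeSpectrum R).asIdeal)
        (LocalizedModule (p : PrimeSpectrum R).asIdeal.primeCompl N) := by
  let p' : PrimeSpectrum R := p
  let S := ((Spec R).presheaf.stalk p' : Type u)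
  let L := Localization.AtPrime p'.asIdeal
  letI : Algebra R S := (StructureSheaf.toStalk R p').hom.toAlgebra
  haveI : IsLocalization p'.asIdeal.primeCompl S := by
    exact (inferInstance : IsLocalization.AtPrime ((Spec.structureSheaf R).presheaf.stalk p') p'.asIdeal)
  haveI : IsScalarTower R S ((tilde N).presheaf.stalk p') :=
    ⟨fun r a z => by rw [Algebra.smul_def, mul_smul]; rfl⟩
  haveI : IsLocalizedModule p'.asIdeal.primeCompl (tilde.toStalk N p').hom :=
    inferInstanceAs (IsLocalizedModule p'.asIdeal.primeCompl (StructureSheaf.toStalkₗ ..))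
  let l := (IsLocalizedModule.iso p'.asIdeal.primeCompl (tilde.toStalk N p').hom).symm
  refine LocCohZQ.depth_congr_semilinear (IsLocalization.algEquiv p'.asIdeal.primeCompl S L).toRingEquiv
    l.toAddEquiv fun a v => ?_
  obtain ⟨⟨r, s⟩, hrs⟩ := IsLocalization.surj p'.asIdeal.primeCompl a
  have hu : IsUnit (algebraMap R L s) := IsLocalization.map_units L s
  refine hu.smul_left_cancel.1 ?_
  rw [algebraMap_smul, smul_smul]
  show (s : R) • l (a • v) = (algebraMap R L s * IsLocalization.algEquiv p'.asIdeal.primeCompl S L a) • l v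
  rw [show algebraMap R L s * IsLocalization.algEquiv p'.asIdeal.primeCompl S L a = algebraMap R L r by
      rw [← (IsLocalization.algEquiv p'.asIdeal.primeCompl S L).commutes, mul_comm,
        ← (IsLocalization.algEquiv p'.asIdeal.primeCompl S L).commutes r, ← hrs]
      exact (map_mul (IsLocalization.algEquiv p'.asIdeal.primeCompl S L) a _).symm,
    algebraMap_smul, ← map_smul, ← map_smul, ← algebraMap_smul S (s : R) (a • v), smul_smul, mul_comm, hrs,
    algebraMap_smul]

/-- Depth of stalks is invariant under isomorphism. -/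
theorem depth_stalk_iso {X : Scheme.{u}} {F G : X.Modules} (e : F ≅ G) (x : X) :
    LocCoh.depth (X.presheaf.stalk x) (F.presheaf.stalk x) =
      LocCoh.depth (X.presheaf.stalk x) (G.presheaf.stalk x) :=
  LocCohZQ.depth_congr_semilinear (RingEquiv.refl _) ((M1.stalkAb x).mapIso e).addCommGroupIsoToAddEquiv
    fun r m => WA.stalkAb_map_smul e.hom x r m

/-- Finiteness of cohomology of a sheaf with a finite model from finiteness of local cohomology. -/
theorem finite_HH_of_finite_H {A : Type u} [CommRing A] [IsNoetherianRing A] (I : Ideal A)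
    (F : (↑(LocCoh.puncturedOpen A I) : Scheme.{u}).Modules) (N : ModuleCat.{u} A) [Module.Finite A N]
    (e : (tilde (R := CommRingCat.of A) N).restrict (LocCoh.puncturedOpen A I).ι ≅ F) (i : ℕ)
    (hH : ∀ j, j ≤ i + 1 → Module.Finite A (LocCoh.H I j N)) :
    Module.Finite A (Coh.HH (↑(LocCoh.puncturedOpen A I) : Scheme.{u}) F i) := by
  suffices Module.Finite A (Coh.HH (↑(LocCoh.puncturedOpen A I)) (LocCohSheafLib.punct I N) i) from
    Module.Finite.equiv (CurveCoh17.hequiv A e i)
  cases i with
  | zero =>
    obtain ⟨e1⟩ := LocCohSheafLib.nonempty_coker_toS_equiv I (N : Type u)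
    haveI := hH 1 (by omega)
    haveI : Module.Finite A (LocCohSheafLib.Sec (N : Type u) (LocCoh.puncturedOpen A I) ⧸
        LinearMap.range (LocCohSheafLib.toS (N : Type u) (LocCoh.puncturedOpen A I))) := Module.Finite.equiv e1.symm
    haveI := Module.Finite.range (LocCohSheafLib.toS (R := A) (N : Type u) (LocCoh.puncturedOpen A I))
    haveI := Module.Finite.of_submodule_quotient
      (LinearMap.range (LocCohSheafLib.toS (R := A) (N : Type u) (LocCoh.puncturedOpen A I)))
    exact Module.Finite.equiv (LocCohSheafLib.secTopH I (N : Type u)).symm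
  | succ p =>
    obtain ⟨e1⟩ := LocCohSheafLib.nonempty_HH_punct_equiv I p (N : Type u)
    haveI := hH (p + 2) (by omega)
    exact Module.Finite.equiv e1.symm


variable (R : Type u) [CommRing R] [IsRegularRing R] {A : Type u} [CommRing A] [IsNoetherianRing A]

/-- Finiteness in degrees at most `n`. -/
theorem finite_HH (π : R →+* A) (hπ : Function.Surjective π) (I : Ideal A) {U : (Spec (CommRingCat.of A)).Opens}
    (hU : U = LocCoh.puncturedOpen A I) (F : (↑U : Scheme.{u}).Modules) (hF : Coh.IsCoh F) (n : ℕ)
    (hdepth : ∀ x : (↑U : Scheme.{u}), ∀ q : PrimeSpectrum A, I ≤ q.asIdeal → @CovBy (PrimeSpectrum A) PrimeSpectrum.instPartialOrder.toPreorder.toLT (U.ι x) q →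
      ((n + 1 : ℕ) : ℕ∞) ≤ LocCoh.depth ((↑U : Scheme.{u}).presheaf.stalk x) (F.presheaf.stalk x))
    (i : ℕ) (hi : i ≤ n) : Module.Finite A (Coh.HH (↑U : Scheme.{u}) F i) := by
  subst hU
  obtain ⟨N, hN, ⟨e⟩⟩ := PunctFree27.exists_finite_model I F hF
  haveI := hN
  have hd : ∀ p q : PrimeSpectrum A, ¬ I ≤ p.asIdeal → I ≤ q.asIdeal → p ⋖ q →
      ((n + 1 : ℕ) : ℕ∞) ≤ LocCoh.depth (Localization.AtPrime p.asIdeal) (LocalizedModule p.asIdeal.primeCompl N) := by
    intro p q hp hq hpq
    have hpU : (p : Spec (CommRingCat.of A)) ∈ LocCoh.puncturedOpen A I := hp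
    have h := hdepth ⟨p, hpU⟩ q hq hpq
    exact h.trans_eq ((depth_stalk_iso e _).symm.trans ((LocCohZQ.depth_restrict (tilde (R := CommRingCat.of A) N)
      (LocCoh.puncturedOpen A I) _).symm.trans (depth_tilde (R := CommRingCat.of A) N p)))
  have hH : ∀ j, j ≤ n + 1 → Module.Finite A (LocCoh.H I j N) :=
    (LocCohLib.finite_H_iff_depth R A π hπ I N (n + 1)).2 hd
  exact finite_HH_of_finite_H I F N e i fun j hj => hH j (by omega)

end Groth.Agent.ComplFormalH7
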