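import Groth.Agent.Lib.ComplFormalH7.Families
import Groth.Agent.Lib.ComplFormalH7.Finite
import Groth.Agent.Lib.ModM1.Coh
import Groth.Agent.Lib.DPerf.Noeth

/-!
# Algebraization of systems on punctured affine schemes
-/

set_option autoImplicit false
set_option linter.style.haveILetI false
set_option backward.isDefEq.respectTransparency false
set_option backward.isDefEq.respectTransparency.types false

universe u

open CategoryTheory CategoryTheory.Limits AlgebraicGeometry Opposite

noncomputable section

namespace Groth.Agent.ComplFormalH7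

open Groth.Agent Groth.Agent.GExistH7 Groth.Agent.FormalH7

variable {A : Type u} [CommRing A] {I : Ideal A} {t : A} {G : ℕᵒᵖ ⥤ (PU I).Modules}

/-- Families are finite over a complete base. -/
theorem finite_famMod [IsNoetherianRing A] [IsAdicComplete (Ideal.span {t}) A]
    (hG : IsSys (Ideal.span {t}) G) (hreg : IsReg t G) (hfin : Module.Finite A (Sn G 0)) :
    Module.Finite A (famMod G) := by
  haveI : IsNoetherian A (Sn G 0) := inferInstance
  obtain ⟨k, v, hv⟩ := Submodule.fg_iff_exists_fin_generating_family.1 (IsNoetherian.noetherian (LinearMap.range (evn G 0)))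
  have hv' : ∀ i, ∃ s : famMod G, evn G 0 s = v i := fun i =>
    LinearMap.mem_range.1 (hv ▸ Submodule.subset_span (Set.mem_range_self i))
  choose m hm using hv'
  have hstep : ∀ s : famMod G, ∃ (a : Fin k → A) (r : famMod G), s = (∑ i, a i • m i) + t • r := by
    intro s
    obtain ⟨a, ha⟩ := Submodule.mem_span_range_iff_exists_fun A |>.1 (hv.symm ▸ LinearMap.mem_range_self (evn G 0) s)
    obtain ⟨r, hr⟩ := (evn_eq_zero_iff hG hreg 0 (s - ∑ i, a i • m i)).1 (by
      rw [map_sub, map_sum, sub_eq_zero]
      simp only [map_smul, hm]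
      exact ha.symm)
    refine ⟨a, r, ?_⟩
    rw [zero_add, pow_one] at hr
    rw [hr]
    abel
  choose a r har using hstep
  refine Module.Finite.of_surjective (Fintype.linearCombination A m) fun s => ?_
  let rs : ℕ → famMod G := fun j => (r^[j]) s
  let c : ℕ → Fin k → A := fun j i => ∑ l ∈ Finset.range j, t ^ l * a (rs l) i
  have hc : ∀ j, s = (∑ i, c j i • m i) + t ^ j • rs j := by
    intro j
    induction j with
    | zero => simp [c, rs]
    | succ j ih =>
      rw [ih]
      conv_lhs => rw [har (rs j)]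
      rw [show rs (j + 1) = r (rs j) from Function.iterate_succ_apply' r j s, smul_add, Finset.smul_sum, smul_smul,
        ← pow_succ, ← add_assoc, ← Finset.sum_add_distrib]
      congr 1
      refine Finset.sum_congr rfl fun i _ => ?_
      show _ = (∑ l ∈ Finset.range (j + 1), t ^ l * a (rs l) i) • m i
      rw [Finset.sum_range_succ, add_smul, smul_smul]
  have hlim : ∀ i, ∃ b : A, ∀ j, ∃ e : A, c j i - b = t ^ j * e := by
    intro i
    obtain ⟨b, hb⟩ := IsPrecomplete.prec' (I := Ideal.span {t}) (M := A) (fun j => c j i) (fun {p q} hpq => by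
      rw [SModEq.sub_mem, ← neg_sub]
      refine Submodule.neg_mem _ ?_
      rw [show c q i - c p i = ∑ l ∈ Finset.Ico p q, t ^ l * a (rs l) i from (Finset.sum_Ico_eq_sub _ hpq).symm]
      refine Submodule.sum_mem _ fun l hl => ?_
      rw [smul_eq_mul, Ideal.mul_top, Ideal.span_singleton_pow, Ideal.mem_span_singleton]
      exact (pow_dvd_pow t (Finset.mem_Ico.1 hl).1).mul_right _)
    refine ⟨b, fun j => ?_⟩
    have h1 := SModEq.sub_mem.1 (hb j)
    rw [smul_eq_mul, Ideal.mul_top, Ideal.span_singleton_pow, Ideal.mem_span_singleton] at h1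
    exact h1
  choose b hb using hlim
  choose e he using hb
  refine ⟨b, Subtype.ext (funext fun n => ?_)⟩
  rw [Fintype.linearCombination_apply]
  show evn G n _ = evn G n s
  rw [eq_comm, ← sub_eq_zero, ← map_sub, evn_eq_zero_iff hG hreg]
  refine ⟨(∑ i, e i (n + 1) • m i) + rs (n + 1), ?_⟩
  conv_rhs => rw [hc (n + 1)]
  rw [smul_add, Finset.smul_sum, add_sub_right_comm, ← Finset.sum_sub_distrib]
  congr 1
  exact Finset.sum_congr rfl fun i _ => by rw [smul_smul, ← he i (n + 1)]; exact sub_smul _ _ _

/-- The sheaf of a module on the punctured scheme. -/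
abbrev tR (I : Ideal A) : ModuleCat.{u} (CommRingCat.of A) ⥤ (PU I).Modules :=
  tildeR (R := CommRingCat.of A) (LocCoh.puncturedOpen A I)

/-- Multiplication by a scalar. -/
theorem tR_map_smul (N : ModuleCat.{u} (CommRingCat.of A)) (a : A) :
    (tR I).map (ModuleCat.ofHom (a • LinearMap.id : N →ₗ[A] N)) = Formal.smulMod A ((tR I).obj N) a := by
  rw [Functor.comp_map, PunctFree27.tilde_map_smul (R := CommRingCat.of A) N a]
  exact (PunctFree27.restrict_map_smulModΓ _ (tilde N) _)

/-- A system with finite sections and first cohomology at the bottom is algebraizable. -/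
theorem algebraizable [IsNoetherianRing A] [IsAdicComplete (Ideal.span {t}) A]
    (hG : IsSys (Ideal.span {t}) G) (hreg : IsReg t G) (h0 : Module.Finite A (Coh.HH (PU I) (G.obj (op 0)) 0))
    (h1 : Module.Finite A (Coh.HH (PU I) (G.obj (op 0)) 1)) : Algebraizable (Ideal.span {t}) G := by
  haveI := PunctFree27.quasiCompact_puncturedOpen I (IsNoetherian.noetherian I)
  haveI : Module.Finite A (famMod G) := finite_famMod hG hreg (Module.Finite.equiv (e0L _))
  obtain ⟨c, hc⟩ := exists_family hG hreg h1
  let M : ModuleCat.{u} (CommRingCat.of A) := ModuleCat.of A (famMod G)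
  let ev : ∀ n, M ⟶ (secF I).obj (G.obj (op n)) := fun n => ConcreteCategory.ofHom (evn G n)
  haveI : Functor.PreservesZeroMorphisms (tR I) := inferInstanceAs
    (Functor.PreservesZeroMorphisms (tilde.functor (CommRingCat.of A) ⋙ Scheme.Modules.restrictFunctor _))
  let ε := epsR (R := CommRingCat.of A) (LocCoh.puncturedOpen A I)
  have hε : ∀ n, IsIso (ε.app (G.obj (op n))) := fun n =>
    isIso_epsR (R := CommRingCat.of A) _ _ (hG.coh n).1
  let χ : ∀ n, (tR I).obj M ⟶ G.obj (op n) := fun n => (tR I).map (ev n) ≫ ε.app _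
  refine ⟨(tR I).obj M, χ, ?_, fun n => ?_, fun n => ?_⟩
  · haveI : Module.FinitePresentation A (famMod G) := Module.finitePresentation_of_finite _ _
    exact DPerf.isCoh_restrict ((M1.isCoh_iff_isFP _).2 (M1.isFP_tilde (R := CommRingCat.of A) M)) _
  · let C := ModuleCat.of (CommRingCat.of A) (Sn G n ⧸ LinearMap.range (evn G n))
    let q : (secF I).obj (G.obj (op n)) ⟶ C := ConcreteCategory.ofHom (LinearMap.range (evn G n)).mkQ
    haveI : Epi q := (ModuleCat.epi_iff_surjective _).2 (Submodule.mkQ_surjective _)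
    have hgq : (secF I).map (gm G (Nat.le_add_right n c)) ≫ q = 0 := ModuleCat.hom_ext (LinearMap.ext fun x => by
      obtain ⟨s, hs⟩ := hc n x
      show (LinearMap.range (evn G n)).mkQ (gs G (Nat.le_add_right n c) x) = 0
      rw [← hs, Submodule.mkQ_apply, Submodule.Quotient.mk_eq_zero]
      exact LinearMap.mem_range_self _ _)
    haveI : Epi (ε.app (G.obj (op (n + c))) ≫ gm G (Nat.le_add_right n c)) :=
      haveI := hε (n + c); haveI := (hG.quot_gm (Nat.le_add_right n c)).epi; epi_comp _ _
    haveI : Epi ((tR I).map ((secF I).map (gm G (Nat.le_add_right n c)))) := by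
      have hn := ε.naturality (gm G (Nat.le_add_right n c))
      haveI := hε n
      have : (tR I).map ((secF I).map (gm G (Nat.le_add_right n c))) =
          (ε.app (G.obj (op (n + c))) ≫ gm G (Nat.le_add_right n c)) ≫ inv (ε.app (G.obj (op n))) :=
        (IsIso.eq_comp_inv _).2 hn
      rw [this]
      exact epi_comp _ _
    have hq0 : (tR I).map q = 0 := by
      rw [← cancel_epi ((tR I).map ((secF I).map (gm G (Nat.le_add_right n c)))), ← Functor.map_comp, hgq,
        Functor.map_zero, comp_zero]
    haveI : Epi ((tR I).map (ev n)) := by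
      let S := ShortComplex.mk (ev n) q (ModuleCat.hom_ext (LinearMap.ext fun x =>
        (Submodule.Quotient.mk_eq_zero _).2 (LinearMap.mem_range_self _ x)))
      have hS : S.Exact := (ShortComplex.moduleCat_exact_iff _).2 fun x hx =>
        (Submodule.Quotient.mk_eq_zero _).1 hx
      obtain ⟨w, hw⟩ := tildeR_exact _ S hS
      exact hw.epi_f hq0
    let μ : M ⟶ M := ModuleCat.ofHom (t ^ (n + 1) • LinearMap.id : famMod G →ₗ[A] famMod G)
    let T := ShortComplex.mk μ (ev n) (ModuleCat.hom_ext (LinearMap.ext fun x =>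
      (evn_eq_zero_iff hG hreg n _).2 ⟨x, rfl⟩))
    have hT : T.Exact := (ShortComplex.moduleCat_exact_iff _).2 fun x hx =>
      (evn_eq_zero_iff hG hreg n x).1 hx
    obtain ⟨w, hw⟩ := tildeR_exact _ T hT
    have hμ : (tR I).map μ = Formal.smulMod A ((tR I).obj M) (t ^ (n + 1)) := tR_map_smul M _
    haveI := hε n
    have hz : Formal.smulMod A ((tR I).obj M) (t ^ (n + 1)) ≫ (tR I).map (ev n) = 0 := hμ ▸ w
    have hquot : IsQuot (Ideal.span {t ^ (n + 1)}) ((tR I).map (ev n)) := isQuot_span_singleton hz (by
      revert hw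
      revert w
      rw [show (tR I).map T.f = Formal.smulMod A ((tR I).obj M) (t ^ (n + 1)) from hμ]
      exact fun _ h => h)
    rw [Ideal.span_singleton_pow]
    exact hquot.comp_iso (asIso (ε.app (G.obj (op n))))
  · have h2 := ε.naturality (gm G (Nat.le_succ n))
    show ((tR I).map (ev (n + 1)) ≫ ε.app _) ≫ gm G (Nat.le_succ n) = _
    rw [Category.assoc]
    erw [← h2]
    show (tR I).map (ev (n + 1)) ≫ (tR I).map ((secF I).map (gm G (Nat.le_succ n))) ≫ ε.app _ = (tR I).map (ev n) ≫ _
    rw [← Category.assoc, ← Functor.map_comp]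
    congr 2
    exact ModuleCat.hom_ext (LinearMap.ext fun x => x.2 n)

end Groth.Agent.ComplFormalH7
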