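import Groth.Prelude.Def_FSch3

/-!
# The two packagings of the completion of a module agree
-/

set_option autoImplicit false
set_option backward.isDefEq.respectTransparency false
set_option maxHeartbeats 1600000

universe u

open CategoryTheory AlgebraicGeometry

noncomputable section

namespace Groth.Agent.ComplFormalH7

theorem pullback_app_trans {X Y Y' : Scheme.{u}} (ι : Y ⟶ Y') (q' : Y' ⟶ X) (q : Y ⟶ X) (w : ι ≫ q' = q) (F : X.Modules) :
    (Scheme.Modules.pullbackComp ι q').app F ≪≫ (Scheme.Modules.pullbackCongr w).app F =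
      (Scheme.Modules.pullbackComp ι q' ≪≫ Scheme.Modules.pullbackCongr w).app F :=
  Iso.ext rfl
theorem complTransIso_eq {X : Scheme.{u}} (𝓘 : X.IdealSheafData) (n : ℕ) :
    FSch.complTransIso 𝓘 n = Scheme.Modules.pullbackComp (Scheme.IdealSheafData.inclusion (FSch.pow_succ_le X 𝓘 n)) (FSch.completionToX X 𝓘 (n + 1)) ≪≫
    Scheme.Modules.pullbackCongr (Scheme.IdealSheafData.inclusion_subschemeι (FSch.pow_succ_le X 𝓘 n)) := rfl
theorem completionMod_e {X : Scheme.{u}} (𝓘 : X.IdealSheafData) (F : X.Modules) (n : ℕ) :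
    (FSch.completionMod 𝓘 F).e n = (Scheme.Modules.pullbackComp (Scheme.IdealSheafData.inclusion (FSch.pow_succ_le X 𝓘 n))
      (FSch.completionToX X 𝓘 (n + 1))).app F ≪≫
    (Scheme.Modules.pullbackCongr (Scheme.IdealSheafData.inclusion_subschemeι (FSch.pow_succ_le X 𝓘 n))).app F := rfl
theorem completionMod_e_eq_complMod_e {X : Scheme.{u}} (𝓘 : X.IdealSheafData) (F : X.Modules) (n : ℕ) :
    (FSch.completionMod 𝓘 F).e n = (FSch.complMod 𝓘 F).e n :=
  ((completionMod_e 𝓘 F n).trans (pullback_app_trans _ _ _ _ F)).trans ((congrArg (fun e => e.app F) (complTransIso_eq 𝓘 n)).symm.trans (FSch.complMod_e 𝓘 F n).symm)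

theorem completionMod_eq {X : Scheme.{u}} (𝓘 : X.IdealSheafData) (F : X.Modules) :
    FSch.completionMod 𝓘 F = FSch.complMod 𝓘 F :=
  congrArg (FSch.ModSys.mk (𝔛 := FSch.completionAlong X 𝓘) (fun n => (Scheme.Modules.pullback (FSch.completionToX X 𝓘 n)).obj F))
    (funext fun n => completionMod_e_eq_complMod_e 𝓘 F n)

end Groth.Agent.ComplFormalH7
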