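import Groth.Agent.Lib.ComplFormalH7.Lim
import Groth.Agent.Lib.ComplFormalH7.Finite

/-!
# Cohomology of coherent sheaves on punctured affine schemes and the formal limit
-/

set_option autoImplicit false
set_option linter.style.haveILetI false

universe u

open CategoryTheory CategoryTheory.Limits AlgebraicGeometry Opposite

noncomputable section

namespace Groth.Agent.ComplFormalH7

variable (R : Type u) [CommRing R] [IsRegularRing R] {A : Type u} [CommRing A]

/-- Bijectivity below the depth bound and injectivity at it. -/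
theorem toHHlim_of_depth [IsNoetherianRing A] (π : R →+* A) (hπ : Function.Surjective π) (t : A)
    [IsAdicComplete (Ideal.span {t}) A] (I : Ideal A) {U : (Spec (CommRingCat.of A)).Opens}
    (hU : U = LocCoh.puncturedOpen A I) (F : (↑U : Scheme.{u}).Modules) (hF : Coh.IsCoh F)
    (hreg : Mono (Formal.smulMod A F t)) (n : ℕ)
    (hdepth : ∀ x : (↑U : Scheme.{u}), ∀ q : PrimeSpectrum A, I ≤ q.asIdeal →
      @CovBy (PrimeSpectrum A) PrimeSpectrum.instPartialOrder.toPreorder.toLT (U.ι x) q →
      ((n + 1 : ℕ) : ℕ∞) ≤ LocCoh.depth ((↑U : Scheme.{u}).presheaf.stalk x) (F.presheaf.stalk x))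
    (i : ℕ) : (i < n → Function.Bijective (Formal.toHHlim (Ideal.span {t}) F i)) ∧
      (i = n → Function.Injective (Formal.toHHlim (Ideal.span {t}) F i)) :=
  ⟨fun h => bijective hreg i (finite_HH R π hπ I hU F hF n hdepth i h.le)
    (finite_HH R π hπ I hU F hF n hdepth (i + 1) h),
   fun h => injective hreg i (finite_HH R π hπ I hU F hF n hdepth i h.le)⟩

/-- The union of the basic opens of `I` is the complement of `V(I)`. -/
theorem iSup_basicOpen_eq (I : Ideal A) :
    (⨆ f : ↥I, (Spec (CommRingCat.of A)).basicOpen ((Scheme.ΓSpecIso (CommRingCat.of A)).inv f.1)) =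
      LocCoh.puncturedOpen A I := by
  refine TopologicalSpace.Opens.ext (Set.ext fun p => ?_)
  have hb : ∀ f : A, p ∈ (Spec (CommRingCat.of A)).basicOpen ((Scheme.ΓSpecIso (CommRingCat.of A)).inv f) ↔
      f ∉ (p : PrimeSpectrum A).asIdeal := fun f => by
    rw [basicOpen_eq_of_affine (R := CommRingCat.of A) f]
    exact Iff.rfl
  refine TopologicalSpace.Opens.mem_iSup.trans ⟨?_, fun hp => ?_⟩
  · rintro ⟨f, hf⟩ hI
    exact (hb f.1).1 hf (hI f.2)
  · obtain ⟨f, hf, hfp⟩ := Set.not_subset.1 (show ¬ (I : Set A) ⊆ (p : PrimeSpectrum A).asIdeal from hp)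
    exact ⟨⟨f, hf⟩, (hb f).2 hfp⟩

theorem puncturedSpec_eq [IsLocalRing A] :
    FEt.puncturedSpec A = LocCoh.puncturedOpen A (IsLocalRing.maximalIdeal A) := by
  refine TopologicalSpace.Opens.ext ?_
  show ({IsLocalRing.closedPoint A}ᶜ : Set (PrimeSpectrum A)) = (PrimeSpectrum.zeroLocus _)ᶜ
  rw [PrimeSpectrum.zeroLocus_eq_singleton]
  rfl

/-- A prime covered by a prime containing `I` has relative codimension one. -/
theorem relCodim_eq_one {I : Ideal A} {p q : PrimeSpectrum A} (hp : ¬ I ≤ p.asIdeal) (hq : I ≤ q.asIdeal)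
    (hpq : p ⋖ q) : SGA2.relCodim I p = 1 := by
  refine le_antisymm ?_ (le_iInf fun r => ?_)
  · refine (iInf_le _ ⟨q, hpq.le, hq⟩).trans (Order.height_le fun s hs => ?_)
    by_contra hlt
    rw [not_le, ← Nat.cast_one, Nat.cast_lt] at hlt
    have h1 := s.strictMono (show (0 : Fin (s.length + 1)) < ⟨1, by omega⟩ from Fin.mk_lt_mk.2 one_pos)
    have h2 := s.strictMono (show (⟨1, by omega⟩ : Fin (s.length + 1)) < Fin.last _ from Fin.mk_lt_mk.2 hlt)
    refine hpq.2 (lt_of_le_of_lt (s 0).2 h1) ?_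
    have : s (Fin.last s.length) = ⟨q, hpq.le⟩ := hs
    rw [this] at h2
    exact h2
  · rw [Order.one_le_iff_pos, Order.height_pos]
    intro h
    have : p = r.1 := le_antisymm r.2.1 (h (b := ⟨p, le_refl p⟩) r.2.1)
    exact hp (this ▸ r.2.2)

end Groth.Agent.ComplFormalH7
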