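import Groth.Agent.Lib.ComplFormalH7.Algebraize
import Groth.Agent.Lib.ComplFormalH7.Main
import Groth.Agent.Lib.ComplFormalH7.CompletionEq
import Groth.Agent.Lib.FormalH7.Sys
import Groth.Agent.Lib.GExistH7.FormalAlg
import Groth.Agent.Lib.EnriquesSeveri11.Proper

/-!
# Algebraization of coherent systems on completions of punctured affine schemes
-/

set_option autoImplicit false
set_option linter.style.haveILetI false
set_option backward.isDefEq.respectTransparency false
set_option maxHeartbeats 400000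

universe u

open CategoryTheory CategoryTheory.Limits AlgebraicGeometry Opposite

noncomputable section

namespace Groth.Agent.ComplFormalH7

open Groth.Agent Groth.Agent.GExistH7 Groth.Agent.FormalH7

variable (R : Type u) [CommRing R] [IsRegularRing R] {A : Type u} [CommRing A] [IsNoetherianRing A]

/-- The ideal sheaf of `t` on an open. -/
abbrev tIdl (t : A) (U : (Spec (CommRingCat.of A)).Opens) : (↑U : Scheme.{u}).IdealSheafData :=
  (Spec.map (CommRingCat.ofHom (Ideal.Quotient.mk (Ideal.span {t})))).ker.comap U.ι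

/-- Algebraization from depth two at relative codimension one. -/
theorem exists_algebraization (π : R →+* A) (hπ : Function.Surjective π) (t : A)
    [IsAdicComplete (Ideal.span {t}) A] (I : Ideal A) {U : (Spec (CommRingCat.of A)).Opens}
    (hU : U = LocCoh.puncturedOpen A I)
    (𝔐 : FSch.ModSys (FSch.completionAlong (↑U : Scheme.{u}) (tIdl t U))) (hcoh : 𝔐.IsCoh)
    (hreg : ∀ N : ℕ, 1 ≤ N → kernelSubobject (Formal.smulModΓ (𝔐.F N)
        (((FSch.completionToX (↑U : Scheme.{u}) (tIdl t U) N ≫ U.ι).appTop.hom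
          ((Scheme.ΓSpecIso (CommRingCat.of A)).inv t)) ^ N)) =
      imageSubobject (Formal.smulModΓ (𝔐.F N)
        ((FSch.completionToX (↑U : Scheme.{u}) (tIdl t U) N ≫ U.ι).appTop.hom
          ((Scheme.ΓSpecIso (CommRingCat.of A)).inv t))))
    (hdepth : ∀ y : ↥((FSch.completionAlong (↑U : Scheme.{u}) (tIdl t U)).X 0),
      ∀ q : PrimeSpectrum A, I ≤ q.asIdeal →
        @CovBy (PrimeSpectrum A) PrimeSpectrum.instPartialOrder.toPreorder.toLT
          ((FSch.completionToX (↑U : Scheme.{u}) (tIdl t U) 0 ≫ U.ι).base y) q →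
        (2 : ℕ∞) ≤ LocCoh.depth (((FSch.completionAlong (↑U : Scheme.{u}) (tIdl t U)).X 0).presheaf.stalk y)
          ((𝔐.F 0).presheaf.stalk y)) :
    ∃ F : (↑U : Scheme.{u}).Modules, Coh.IsCoh F ∧ Nonempty (FSch.completionMod (tIdl t U) F ≅ 𝔐) := by
  subst hU
  let 𝓘 := tIdl t (LocCoh.puncturedOpen A I)
  have h𝓘 : 𝓘 = (FSch.idealSpec A (Ideal.span {t})).comap (PU I ↘ Spec (CommRingCat.of A)) := rfl
  have hG := isSys_gSys (Ideal.span {t}) 𝓘 h𝓘 𝔐 hcoh
  have hr : IsReg t (gSys 𝓘 𝔐) := by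
    intro N x z hN hz
    letI : ((FSch.completionAlong (PU I) 𝓘).X N).Over (Spec (CommRingCat.of A)) :=
      ⟨FSch.completionToX (PU I) 𝓘 N ≫ (PU I ↘ Spec (CommRingCat.of A))⟩
    obtain ⟨w, hex⟩ := exact_of_kernelSubobject_eq (hreg N hN)
    have h1 : Formal.smulMod A (𝔐.F N) t = Formal.smulModΓ (𝔐.F N)
        ((FSch.completionToX (PU I) 𝓘 N ≫ (LocCoh.puncturedOpen A I).ι).appTop.hom
          ((Scheme.ΓSpecIso (CommRingCat.of A)).inv t)) := rfl
    have h2 : Formal.smulMod A (𝔐.F N) (t ^ N) = Formal.smulModΓ (𝔐.F N)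
        (((FSch.completionToX (PU I) 𝓘 N ≫ (LocCoh.puncturedOpen A I).ι).appTop.hom
          ((Scheme.ΓSpecIso (CommRingCat.of A)).inv t)) ^ N) :=
      congrArg (Formal.smulModΓ (𝔐.F N)) (map_pow (Coh.toGlobal _) t N)
    revert hex
    revert w
    rw [← h1, ← h2]
    intro w hex
    exact exists_div_push (FSch.completionToX (PU I) 𝓘 N) rfl (𝔐.F N) hex x z hz
  have hd : ∀ x : PU I, ∀ q : PrimeSpectrum A, I ≤ q.asIdeal →
      @CovBy (PrimeSpectrum A) PrimeSpectrum.instPartialOrder.toPreorder.toLT ((LocCoh.puncturedOpen A I).ι x) q →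
      ((1 + 1 : ℕ) : ℕ∞) ≤ LocCoh.depth ((PU I).presheaf.stalk x) (((gSys 𝓘 𝔐).obj (op 0)).presheaf.stalk x) := by
    intro x q hq hpq
    by_cases hx : x ∈ Set.range (FSch.completionToX (PU I) 𝓘 0)
    · obtain ⟨y, rfl⟩ := hx
      exact (hdepth y q hq hpq).trans_eq (ES11.depth_push_stalk (FSch.completionToX (PU I) 𝓘 0) (𝔐.F 0) y).symm
    · exact le_top.trans_eq (ES11.depth_push_stalk_notMem (FSch.completionToX (PU I) 𝓘 0) (𝔐.F 0) hx).symm
  have hf := finite_HH R π hπ I rfl _ (hG.coh 0) 1 hd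
  obtain ⟨F, χ, hF, hq, hc⟩ := algebraizable hG hr (hf 0 (Nat.zero_le 1)) (hf 1 le_rfl)
  haveI : IsLocallyNoetherian (PU I) := LocallyOfFiniteType.isLocallyNoetherian (LocCoh.puncturedOpen A I).ι
  obtain ⟨e⟩ := nonempty_iso_complMod (Ideal.span {t}) 𝓘 h𝓘
    (FormalH7.isFormal_isAdic_completionAlong (PU I) 𝓘).1 𝔐 hF χ hq fun n => by
      rw [← gm_ofOpSequence (trG 𝓘 𝔐) n]; exact hc n
  rw [← completionMod_eq] at e
  exact ⟨F, hF, ⟨e.symm⟩⟩

end Groth.Agent.ComplFormalH7
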