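import Groth.Agent.Lib.ComplFormalH7.Stable

/-!
# Compatible families of sections of a system on a punctured affine scheme
-/

set_option autoImplicit false
set_option linter.style.haveILetI false
set_option backward.isDefEq.respectTransparency false
set_option backward.isDefEq.respectTransparency.types false

universe u

open CategoryTheory CategoryTheory.Limits AlgebraicGeometry Opposite

noncomputable section

namespace Groth.Agent.ComplFormalH7

open Groth.Agent Groth.Agent.GExistH7 Groth.Agent.FormalH7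

variable {A : Type u} [CommRing A] {I : Ideal A} {t : A} {G : ℕᵒᵖ ⥤ (PU I).Modules}

instance : (secF I).Additive :=
  additive_secR (R := CommRingCat.of A) (LocCoh.puncturedOpen A I)

/-- Sections of a level. -/
abbrev Sn (G : ℕᵒᵖ ⥤ (PU I).Modules) (n : ℕ) : Type u := (secF I).obj (G.obj (op n))

/-- Projection of sections. -/
def gs (G : ℕᵒᵖ ⥤ (PU I).Modules) {n m : ℕ} (h : n ≤ m) : Sn G m →ₗ[A] Sn G n := ((secF I).map (gm G h)).hom

theorem gs_gs {n m k : ℕ} (h : n ≤ m) (h' : m ≤ k) (x : Sn G k) : gs G h (gs G h' x) = gs G (h.trans h') x := by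
  rw [gs, gs, gs, ← gm_comp G h h', Functor.map_comp]
  rfl

theorem gs_refl {n : ℕ} (x : Sn G n) : gs G (le_refl n) x = x := by
  rw [gs, gm_refl, CategoryTheory.Functor.map_id]
  rfl

variable (G)

/-- Compatible families. -/
def famMod : Submodule A (∀ n, Sn G n) where
  carrier := {s | ∀ n, gs G (Nat.le_succ n) (s (n + 1)) = s n}
  zero_mem' := fun n => map_zero _
  add_mem' := fun {a b} ha hb n => by
    rw [Pi.add_apply, map_add, ha n, hb n]
    rfl
  smul_mem' := fun c a ha n => by
    rw [Pi.smul_apply, map_smul, ha n]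
    rfl

/-- Evaluation of a family. -/
def evn (n : ℕ) : famMod G →ₗ[A] Sn G n := LinearMap.proj n ∘ₗ (famMod G).subtype

variable {G}

theorem gs_evn (s : famMod G) {n m : ℕ} (h : n ≤ m) : gs G h (evn G m s) = evn G n s := by
  induction m, h using Nat.le_induction with
  | base => exact gs_refl _
  | succ m h ih => exact (gs_gs h (Nat.le_succ m) (evn G (m + 1) s)).symm.trans ((congrArg (gs G h) (s.2 m)).trans ih)

variable (hG : IsSys (Ideal.span {t}) G) (hreg : IsReg t G)
include hG hreg

theorem exists_family [IsNoetherianRing A] (hfin : Module.Finite A (Coh.HH (PU I) (G.obj (op 0)) 1)) :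
    ∃ c, ∀ (n : ℕ) (x : Sn G (n + c)), ∃ s : famMod G, evn G n s = gs G (Nat.le_add_right n c) x := by
  obtain ⟨d, hd⟩ := exists_stable hG hfin
  refine ⟨d + 1, fun n x => ?_⟩
  have hstep : ∀ (k : ℕ) (y : Sn G (n + k + (d + 1))), ∃ y' : Sn G (n + (k + 1) + (d + 1)),
      gs G (show n + k ≤ n + (k + 1) + (d + 1) by omega) y' = gs G (show n + k ≤ n + k + (d + 1) by omega) y := by
    intro k y
    obtain ⟨x', hx'⟩ := exists_lift_succ hG hreg hd (n := n + k) (N := n + k + (d + 1)) rfl ((e0 _).symm y)
    have h1 := congrArg (e0 _) hx'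
    rw [e0_hmap, e0_hmap, AddEquiv.apply_symm_apply] at h1
    refine ⟨gs G (show n + (k + 1) + (d + 1) ≤ n + k + (d + 1) + 1 by omega) (e0 _ x'), ?_⟩
    rw [gs_gs]
    exact h1
  choose next hnext using hstep
  let y : ∀ k, Sn G (n + k + (d + 1)) := fun k => k.rec (motive := fun k => Sn G (n + k + (d + 1))) x next
  let s : ∀ m, Sn G m := fun m => gs G (show m ≤ n + m by omega)
    (gs G (show n + m ≤ n + m + (d + 1) by omega) (y m))
  have hy : ∀ k, gs G (show n + k ≤ n + (k + 1) + (d + 1) by omega) (y (k + 1)) =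
      gs G (show n + k ≤ n + k + (d + 1) by omega) (y k) := fun k => hnext k (y k)
  have hyk : ∀ k, gs G (show n ≤ n + k + (d + 1) by omega) (y k) = gs G (Nat.le_add_right n (d + 1)) x := by
    intro k
    induction k with
    | zero => rfl
    | succ k ih =>
      rw [← gs_gs (show n ≤ n + k by omega) (show n + k ≤ n + (k + 1) + (d + 1) by omega), hy, gs_gs]
      exact ih
  refine ⟨⟨s, fun m => ?_⟩, ?_⟩
  · show gs G _ (gs G _ (gs G _ (y (m + 1)))) = gs G _ (gs G _ (y m))
    rw [← hy m]
    simp only [gs_gs]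
  · show gs G _ (gs G _ (y n)) = _
    rw [gs_gs]
    exact hyk n

omit hreg in
/-- Multiplication by a power of `t` through the inclusions. -/
theorem secF_gs_iota {a b M : ℕ} (h : a + b + 1 = M) (x : Sn G M) :
    (secF I).map (iota hG h) (gs G (show a ≤ M by omega) x) = t ^ (b + 1) • x := by
  rw [← secF_map_smulMod, ← gm_iota hG h, Functor.map_comp]
  rfl

theorem injective_secF_iota {a b M : ℕ} (h : a + b + 1 = M) : Function.Injective ((secF I).map (iota hG h)) := by
  intro x y hxy
  obtain ⟨x, rfl⟩ := (e0 _).surjective x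
  obtain ⟨y, rfl⟩ := (e0 _).surjective y
  rw [← e0_hmap, ← e0_hmap] at hxy
  exact congrArg (e0 _) (CurveCoh17.hmap_f_injective A (shortExact_levSeq hG hreg h) ((e0 _).injective hxy))

theorem exists_secF_iota {a b M : ℕ} (h : a + b + 1 = M) (x : Sn G M) (hx : gs G (show b ≤ M by omega) x = 0) :
    ∃ y, (secF I).map (iota hG h) y = x := by
  obtain ⟨x, rfl⟩ := (e0 _).surjective x
  obtain ⟨y, hy⟩ := (CurveCoh17.exact_hmap_hmap A (shortExact_levSeq hG hreg h) 0 x).1 ((e0 _).injective
    ((e0_hmap _ x).trans (hx.trans (map_zero _).symm)))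
  exact ⟨e0 _ y, (e0_hmap _ y).symm.trans (congrArg (e0 _) hy)⟩

/-- The families vanishing at a level are multiples. -/
theorem evn_eq_zero_iff (n : ℕ) (s : famMod G) : evn G n s = 0 ↔ ∃ r, t ^ (n + 1) • r = s := by
  constructor
  · intro hs
    have hdiv : ∀ m, ∃ y : Sn G m, (secF I).map (iota hG (show m + n + 1 = m + n + 1 from rfl)) y =
        evn G (m + n + 1) s := fun m =>
      exists_secF_iota hG hreg _ _ (by rw [gs_evn, hs])
    choose y hy using hdiv
    refine ⟨⟨y, fun m => injective_secF_iota hG hreg (show m + n + 1 = m + n + 1 from rfl) ?_⟩,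
      Subtype.ext (funext fun m => ?_)⟩
    · rw [hy m, ← gs_evn s (show m + n + 1 ≤ m + 1 + n + 1 by omega), ← hy (m + 1), gs, gs, ← ConcreteCategory.comp_apply,
        ← Functor.map_comp, ← iota_gm hG (show m + 1 + n + 1 = m + 1 + n + 1 from rfl) (show m + n + 1 = m + n + 1 from rfl) (Nat.le_succ m), Functor.map_comp]
      rfl
    · show t ^ (n + 1) • y m = evn G m s
      rw [← gs_evn s (show m ≤ m + n + 1 by omega), ← hy m, gs, ← ConcreteCategory.comp_apply, ← Functor.map_comp,
        ← secF_map_smulMod, iota_gm_self]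
  · rintro ⟨r, rfl⟩
    rw [map_smul, ← secF_map_smulMod, hG.killed n _ (Ideal.pow_mem_pow (Ideal.mem_span_singleton_self t) _),
      Functor.map_zero]
    rfl

end Groth.Agent.ComplFormalH7
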