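import Groth.Agent.Lib.FormalH7.ModLim
import Groth.Agent.Lib.DVRTriv4.Seq
import Groth.Agent.Lib.FormalCohH7.Torsion
import Groth.Prelude.Def_Formal

/-!
# The formal limit of cohomology along a regular element with finite cohomology
-/

set_option autoImplicit false
set_option linter.style.haveILetI false

universe u

open CategoryTheory CategoryTheory.Limits AlgebraicGeometry Opposite

noncomputable section

namespace Groth.Agent.ComplFormalH7

open Groth.Agent

variable {A : Type u} [CommRing A] {X : Scheme.{u}} [X.Over (Spec (CommRingCat.of A))]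
  {F : X.Modules} {t : A}

theorem mono_smulMod_pow (h : Mono (Formal.smulMod A F t)) (k : ℕ) : Mono (Formal.smulMod A F (t ^ k)) := by
  induction k with
  | zero => rw [pow_zero, FormalH7.smulMod_one]; infer_instance
  | succ k ih => rw [pow_succ, FormalH7.smulMod_mul]; exact mono_comp _ _

theorem smulMod_modPowπ {k : ℕ} {a : A} (ha : a ∈ Ideal.span {t} ^ k) :
    Formal.smulMod A F a ≫ Formal.modPowπ (Ideal.span {t}) k F = 0 :=
  (FormalH7.smulFamily_comp_eq_zero_iff _).1 (cokernel.condition _) a ha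

theorem pow_mem (k : ℕ) : t ^ k ∈ Ideal.span {t} ^ k :=
  Ideal.pow_mem_pow (Ideal.mem_span_singleton_self t) k

variable (F t)

/-- `F → F → F/t^kF`. -/
def seq (k : ℕ) : ShortComplex X.Modules :=
  ShortComplex.mk (Formal.smulMod A F (t ^ k)) (Formal.modPowπ (Ideal.span {t}) k F) (smulMod_modPowπ (pow_mem k))

variable {F t}

/-- The projection is a cokernel of multiplication. -/
def isCokernelSeq (k : ℕ) : IsColimit (CokernelCofork.ofπ (seq F t k).g (seq F t k).zero) :=
  haveI : Epi (seq F t k).g := FormalH7.epi_modPowπ _ _ _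
  CokernelCofork.IsColimit.ofπ' _ _ fun {Z} φ hφ =>
    ⟨cokernel.desc _ φ ((FormalH7.smulFamily_comp_eq_zero_iff φ).2 fun a ha => by
      obtain ⟨b, rfl⟩ : ∃ b, t ^ k * b = a := by
        rw [Ideal.span_singleton_pow, Ideal.mem_span_singleton] at ha
        obtain ⟨b, hb⟩ := ha
        exact ⟨b, hb.symm⟩
      rw [FormalH7.smulMod_mul, Category.assoc]
      erw [hφ]
      exact comp_zero), cokernel.π_desc _ _ _⟩

theorem shortExact_seq (h : Mono (Formal.smulMod A F t)) (k : ℕ) : (seq F t k).ShortExact :=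
  { exact := ShortComplex.exact_of_g_is_cokernel _ (isCokernelSeq k)
    mono_f := mono_smulMod_pow h k
    epi_g := FormalH7.epi_modPowπ _ _ _ }

theorem mem_pow_smul_iff {M : Type u} [AddCommGroup M] [Module A M] (k : ℕ) (x : M) :
    x ∈ (Ideal.span {t} ^ k • ⊤ : Submodule A M) ↔ ∃ r : M, t ^ k • r = x := by
  rw [Ideal.span_singleton_pow, Submodule.ideal_span_singleton_smul, Submodule.mem_smul_pointwise_iff_exists]
  exact exists_congr fun y => and_iff_right Submodule.mem_top

theorem hmap_eq_zero_iff (h : Mono (Formal.smulMod A F t)) (k i : ℕ) (x : Coh.HH X F i) :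
    CurveCoh17.hmap A (Formal.modPowπ (Ideal.span {t}) k F) i x = 0 ↔ ∃ r, t ^ k • r = x := by
  refine (CurveCoh17.exact_hmap_hmap A (shortExact_seq h k) i x).trans ?_
  exact exists_congr fun r => Eq.congr_left (DVRTriv4.hmap_smulMod A F (t ^ k) i r)

theorem toHHlim_apply (i : ℕ) (x : Coh.HH X F i) (n : ℕ) :
    (Formal.toHHlim (Ideal.span {t}) F i x).1 n =
      CurveCoh17.hmap A (Formal.modPowπ (Ideal.span {t}) (n + 1) F) i x := rfl

variable [IsNoetherianRing A] [IsAdicComplete (Ideal.span {t}) A]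

/-- Finite cohomology injects into the formal limit. -/
theorem injective (h : Mono (Formal.smulMod A F t)) (i : ℕ) (hfin : Module.Finite A (Coh.HH X F i)) :
    Function.Injective (Formal.toHHlim (Ideal.span {t}) F i) := by
  haveI := Compl.isAdicComplete_of_finite (Ideal.span {t}) (Coh.HH X F i)
  rw [injective_iff_map_eq_zero]
  intro x hx
  refine IsHausdorff.haus (I := Ideal.span {t}) inferInstance x fun n => ?_
  rw [SModEq.sub_mem, sub_zero]
  refine Submodule.smul_mono_left (Ideal.pow_le_pow_right n.le_succ) ((mem_pow_smul_iff (n + 1) x).2 ?_)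
  rw [← hmap_eq_zero_iff h (n + 1) i x, ← toHHlim_apply, hx]
  rfl

/-- The transition between the sequences. -/
def seqTrans (n : ℕ) : seq F t (n + 1) ⟶ seq F t n where
  τ₁ := Formal.smulMod A F t
  τ₂ := 𝟙 F
  τ₃ := Formal.modPowTrans (Ideal.span {t}) n F
  comm₁₂ := by
    show Formal.smulMod A F t ≫ Formal.smulMod A F (t ^ n) = Formal.smulMod A F (t ^ (n + 1)) ≫ 𝟙 F
    rw [Category.comp_id, pow_succ, FormalH7.smulMod_mul]
  comm₂₃ := by
    show 𝟙 F ≫ Formal.modPowπ (Ideal.span {t}) n F = Formal.modPowπ (Ideal.span {t}) (n + 1) F ≫ _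
    rw [Category.id_comp, Formal.modPowπ_trans]

/-- Finite cohomology in two degrees gives bijectivity of the map to the formal limit. -/
theorem bijective (h : Mono (Formal.smulMod A F t)) (i : ℕ) (hfin : Module.Finite A (Coh.HH X F i))
    (hfin' : Module.Finite A (Coh.HH X F (i + 1))) :
    Function.Bijective (Formal.toHHlim (Ideal.span {t}) F i) := by
  refine ⟨injective h i hfin, fun y => ?_⟩
  obtain ⟨y, hy⟩ := y
  let π := fun n => CurveCoh17.hmap A (Formal.modPowπ (Ideal.span {t}) (n + 1) F) i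
  let τ := fun n => CurveCoh17.hmap A (Formal.modPowTrans (Ideal.span {t}) (n + 1) F) i
  have hτy : ∀ n, τ n (y (n + 1)) = y n := hy
  have hτπ : ∀ n x, τ n (π (n + 1) x) = π n x := fun n x => by
    show CurveCoh17.hmap A _ i (CurveCoh17.hmap A _ i x) = CurveCoh17.hmap A _ i x
    rw [← CurveCoh17.hmap_comp, Formal.modPowπ_trans]
  let δ := fun n => CurveCoh17.hdelta A (shortExact_seq h (n + 1)) i (y n)
  have hδkill : ∀ n, t ^ (n + 1) • δ n = 0 := fun n => by
    have h0 := (CurveCoh17.exact_hdelta_hmap A (shortExact_seq h (n + 1)) i (δ n)).2 ⟨y n, rfl⟩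
    erw [DVRTriv4.hmap_smulMod] at h0
    exact h0
  have hδ : ∀ n, δ n = t • δ (n + 1) := fun n => by
    have hn := DVRTriv4.hdelta_natural A (shortExact_seq h (n + 1 + 1)) (shortExact_seq h (n + 1))
      (seqTrans (n + 1)) i (y (n + 1))
    rw [show CurveCoh17.hmap A (seqTrans (n + 1)).τ₃ i (y (n + 1)) = y n from hτy n] at hn
    refine hn.symm.trans ?_
    exact DVRTriv4.hmap_smulMod A F t (i + 1) _
  have hδpow : ∀ n m, δ n = t ^ m • δ (n + m) := fun n m => by
    induction m with
    | zero => rw [pow_zero, one_smul]; rfl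
    | succ m ih => exact ih.trans ((congrArg (t ^ m • ·) (hδ (n + m))).trans ((smul_smul _ _ _).trans (congrArg (· • _) (pow_succ t m).symm)))
  obtain ⟨c, hc⟩ := FormalCohH7.exists_isTorsBound (A := A) t (Coh.HH X F (i + 1))
  have hlift : ∀ n, ∃ x, π n x = y n := fun n => by
    refine (CurveCoh17.exact_hmap_hdelta A (shortExact_seq h (n + 1)) i (y n)).1 ?_
    exact (hδpow n c).trans (hc _ _ (hδkill (n + c)))
  choose x hx using hlift
  have hxa : ∀ a d, π a (x (a + d)) = y a := fun a d => by
    induction d generalizing a with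
    | zero => exact hx a
    | succ d ih =>
      rw [← hτπ, show x (a + (d + 1)) = x (a + 1 + d) by rw [add_assoc, add_comm 1 d], ih (a + 1), hτy]
  haveI := Compl.isAdicComplete_of_finite (Ideal.span {t}) (Coh.HH X F i)
  obtain ⟨L, hL⟩ := IsPrecomplete.prec' (I := Ideal.span {t}) x (fun {a b} hab => by
    obtain ⟨d, rfl⟩ := Nat.exists_eq_add_of_le hab
    rw [SModEq.sub_mem]
    refine Submodule.smul_mono_left (Ideal.pow_le_pow_right a.le_succ) ((mem_pow_smul_iff (a + 1) _).2 ?_)
    refine (hmap_eq_zero_iff h (a + 1) i _).1 ?_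
    rw [map_sub]
    exact sub_eq_zero.2 ((hx a).trans (hxa a d).symm))
  refine ⟨L, Subtype.ext (funext fun n => ?_)⟩
  rw [toHHlim_apply]
  show π n L = y n
  have h1 := (hmap_eq_zero_iff h (n + 1) i _).2 ((mem_pow_smul_iff _ _).1 (SModEq.sub_mem.1 (hL (n + 1))))
  rw [map_sub, sub_eq_zero] at h1
  exact h1.symm.trans (hxa n 1)

end Groth.Agent.ComplFormalH7
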