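import Groth.Agent.Lib.LocCoh.Finiteness
import Mathlib.Algebra.Module.FinitePresentation

/-!
# Local cohomology of modules locally free over a quotient
-/

set_option autoImplicit false

universe u

open CategoryTheory

noncomputable section

namespace Groth.Agent.ComplFormalH7

open Groth.Agent

variable {A : Type u} [CommRing A] [IsNoetherianRing A] (a : Ideal A)

/-- Maps whose composition is a scalar after localization. -/
theorem exists_factor {N Q : Type u} [AddCommGroup N] [Module A N] [Module.Finite A N] [AddCommGroup Q] [Module A Q]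
    [Module.Finite A Q] (g : A)
    (e : LocalizedModule (Submonoid.powers g) N ≃ₗ[A] LocalizedModule (Submonoid.powers g) Q) :
    ∃ (k : ℕ) (s : N →ₗ[A] Q) (p : Q →ₗ[A] N), p ∘ₗ s = g ^ k • LinearMap.id := by
  let S := Submonoid.powers g
  haveI := Module.finitePresentation_of_finite A N
  haveI := Module.finitePresentation_of_finite A Q
  obtain ⟨s, ⟨_, i, rfl⟩, hs⟩ := Module.FinitePresentation.exists_lift_of_isLocalizedModule S
    (LocalizedModule.mkLinearMap S Q) (e.toLinearMap ∘ₗ LocalizedModule.mkLinearMap S N)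
  obtain ⟨p, ⟨_, j, rfl⟩, hp⟩ := Module.FinitePresentation.exists_lift_of_isLocalizedModule S
    (LocalizedModule.mkLinearMap S N) (e.symm.toLinearMap ∘ₗ LocalizedModule.mkLinearMap S Q)
  have h1 : LocalizedModule.mkLinearMap S N ∘ₗ (p ∘ₗ s) =
      LocalizedModule.mkLinearMap S N ∘ₗ (g ^ (j + i) • LinearMap.id) := LinearMap.ext fun x => by
    have hs' : LocalizedModule.mkLinearMap S Q (s x) = g ^ i • e (LocalizedModule.mkLinearMap S N x) :=
      LinearMap.congr_fun hs x
    have hp' : LocalizedModule.mkLinearMap S N (p (s x)) = g ^ j • e.symm (LocalizedModule.mkLinearMap S Q (s x)) :=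
      LinearMap.congr_fun hp (s x)
    show LocalizedModule.mkLinearMap S N (p (s x)) = LocalizedModule.mkLinearMap S N (g ^ (j + i) • x)
    rw [hp', hs', map_smul, e.symm_apply_apply, smul_smul, ← pow_add, map_smul]
  obtain ⟨⟨_, m, rfl⟩, hm⟩ := Module.Finite.exists_smul_of_comp_eq_of_isLocalizedModule S
    (LocalizedModule.mkLinearMap S N) _ _ h1
  refine ⟨m + (j + i), s, g ^ m • p, ?_⟩
  rw [LinearMap.smul_comp, pow_add, mul_smul]
  exact hm

theorem hmap_add (i : ℕ) {B C : Type u} [AddCommGroup B] [Module A B] [AddCommGroup C] [Module A C]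
    (φ ψ : B →ₗ[A] C) : LocCohLib.hmap a i (φ + ψ) = LocCohLib.hmap a i φ + LocCohLib.hmap a i ψ := by
  ext x
  obtain ⟨n, y, rfl⟩ := LocCohLib.exists_ι a i _ x
  change ((localCohomology a i).map (ModuleCat.ofHom φ + ModuleCat.ofHom ψ)).hom (LocCohLib.ι a i _ n y) =
    ((localCohomology a i).map (ModuleCat.ofHom φ)).hom (LocCohLib.ι a i _ n y) +
      ((localCohomology a i).map (ModuleCat.ofHom ψ)).hom (LocCohLib.ι a i _ n y)
  rw [LocCohLib.map_ι, LocCohLib.map_ι, LocCohLib.map_ι, ← map_add, Abelian.Ext.mk₀_add, Abelian.Ext.comp_add]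

/-- Finiteness passes to modules which are locally summands of powers of the given one. -/
theorem finite_H_of_local_summand {N T : Type u} [AddCommGroup N] [Module A N] [Module.Finite A N] [AddCommGroup T]
    [Module A T] [Module.Finite A T] (n : ℕ) (hT : ∀ i, i ≤ n → Module.Finite A (LocCoh.H a i T))
    (hloc : ∀ p : PrimeSpectrum A, ¬ a ≤ p.asIdeal → ∃ (g : A) (r : ℕ), g ∉ p.asIdeal ∧
      Nonempty (LocalizedModule (Submonoid.powers g) N ≃ₗ[A] LocalizedModule (Submonoid.powers g) (Fin r → T))) :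
    ∀ i, i ≤ n → Module.Finite A (LocCoh.H a i N) := by
  classical
  obtain ⟨J, hJ, hJk⟩ := (LocCohLib.finite_iff_annihilated a T n).1 hT
  refine LocCohLib.finite_of_annihilated a n N ?_
  let K : Ideal A := ⨅ i : {i : ℕ // i ≤ n}, ⨅ x : LocCoh.H a i.1 N, LinearMap.ker (LinearMap.toSpanSingleton A _ x)
  refine ⟨K, ?_, fun i hi b hb x => ?_⟩
  swap
  · have h1 := (Submodule.mem_iInf _).1 ((Submodule.mem_iInf _).1 hb ⟨i, hi⟩) x
    rwa [LinearMap.mem_ker, LinearMap.toSpanSingleton_apply] at h1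
  rw [Ideal.radical_eq_sInf]
  refine le_sInf fun P hP => ?_
  obtain ⟨hKP, hP⟩ := hP
  by_contra haP
  obtain ⟨g, r, hg, ⟨e⟩⟩ := hloc ⟨P, hP⟩ haP
  obtain ⟨k, s, p, hps⟩ := exists_factor g e
  obtain ⟨c, hc, hcP⟩ : ∃ c ∈ J, c ∉ P := by
    by_contra! h
    exact haP (hJ.trans (hP.radical_le_iff.2 h))
  have hmem : c * g ^ k ∈ K := by
    refine (Submodule.mem_iInf _).2 fun i => (Submodule.mem_iInf _).2 fun x => ?_
    rw [LinearMap.mem_ker, LinearMap.toSpanSingleton_apply, mul_smul]
    have hsum : g ^ k • (LinearMap.id : N →ₗ[A] N) =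
        ∑ j, (p ∘ₗ LinearMap.single A (fun _ : Fin r => T) j) ∘ₗ (LinearMap.proj j ∘ₗ s) := by
      rw [← hps]
      ext m
      simp only [LinearMap.sum_apply, LinearMap.comp_apply, LinearMap.proj_apply, LinearMap.single_apply]
      rw [← map_sum, Finset.univ_sum_single]
    have hx : g ^ k • x = LocCohLib.hmap a i.1 (g ^ k • (LinearMap.id : N →ₗ[A] N)) x := by
      rw [LocCohLib.hmap_smul, LocCohLib.hmap_id]
      rfl
    rw [hx, hsum]
    suffices key : ∀ u : Finset (Fin r), c • LocCohLib.hmap a i.1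
        (∑ j ∈ u, (p ∘ₗ LinearMap.single A (fun _ : Fin r => T) j) ∘ₗ (LinearMap.proj j ∘ₗ s)) x = 0 from key _
    intro u
    induction u using Finset.induction_on with
    | empty =>
      rw [Finset.sum_empty, show (0 : N →ₗ[A] N) = (0 : A) • LinearMap.id by rw [zero_smul], LocCohLib.hmap_smul,
        zero_smul, LinearMap.zero_apply, smul_zero]
    | insert j u hj ih =>
      rw [Finset.sum_insert hj, hmap_add, LinearMap.add_apply, smul_add, ih, add_zero,
        LocCohLib.hmap_comp a i.1 (p ∘ₗ LinearMap.single A (fun _ : Fin r => T) j), LinearMap.comp_apply, ← map_smul,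
        hJk i.1 i.2 c hc, map_zero]
  rcases hP.mem_or_mem (hKP hmem) with h | h
  · exact hcP h
  · exact hg (hP.mem_of_pow_mem k h)

end Groth.Agent.ComplFormalH7
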