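import Groth.Agent.Lib.ComplFormalH7.Algebraize
import Groth.Agent.Lib.ComplFormalH7.Lim
import Groth.Agent.Lib.ComplFormalH7.Summand
import Groth.Agent.Lib.TensorMod.Invertible
import Groth.Prelude.Def_Formal2

/-!
# Systems which are locally free over the infinitesimal neighbourhoods of a regular element
-/

set_option autoImplicit false
set_option linter.style.haveILetI false
set_option backward.isDefEq.respectTransparency false
set_option backward.isDefEq.respectTransparency.types false

universe u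

open CategoryTheory CategoryTheory.Limits AlgebraicGeometry Opposite

noncomputable section

namespace Groth.Agent.ComplFormalH7

open Groth.Agent Groth.Agent.GExistH7 Groth.Agent.FormalH7

section stalks

variable {A : Type u} [CommRing A] {X : Scheme.{u}} [X.Over (Spec (CommRingCat.of A))] {t : A}

/-- Division in quotients of a regular module. -/
theorem exists_div_modPow {P : X.Modules} (hP : Mono (Formal.smulMod A P t)) (N : ℕ) (x : X)
    (z : (M1.stalkAb x).obj (Formal.modPow (Ideal.span {t}) (N + 1) P)) (hz : sm _ (t ^ N) x z = 0) :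
    ∃ w, sm _ t x w = z := by
  let π := Formal.modPowπ (Ideal.span {t}) (N + 1) P
  haveI : Epi π := FormalH7.epi_modPowπ _ _ _
  obtain ⟨y, rfl⟩ := (M1.epi_iff_stalk π).1 inferInstance x z
  obtain ⟨y', hy'⟩ := (M1.exact_iff_stalk_eq_zero _).1 (shortExact_seq hP (N + 1)).exact x (sm P (t ^ N) x y)
    (((sm_natural π (t ^ N) x y)).trans hz)
  refine ⟨(M1.stalkAb x).map π y', ?_⟩
  rw [← sm_natural]
  congr 1
  apply (M1.mono_iff_stalk _).1 (mono_smulMod_pow hP N) x
  refine Eq.trans ?_ hy'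
  show sm P (t ^ N) x (sm P t x y') = sm P (t ^ (N + 1)) x y'
  rw [pow_succ, sm_mul]

/-- Division is local. -/
theorem exists_div_of_restrict {G P : X.Modules} (V : X.Opens) (e : G.restrict V.ι ≅ P.restrict V.ι) (a b : A)
    {x : X} (hx : x ∈ V)
    (hP : ∀ z : (M1.stalkAb x).obj P, sm P b x z = 0 → ∃ w, sm P a x w = z)
    (z : (M1.stalkAb x).obj G) (hz : sm G b x z = 0) : ∃ w, sm G a x w = z := by
  let y : (V : Scheme.{u}) := ⟨x, hx⟩
  let ν := Scheme.Modules.restrictStalkNatIso V.ι y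
  let n : ∀ M : X.Modules, (M1.stalkAb y).obj (M.restrict V.ι) ≅ (M1.stalkAb x).obj M := fun M => ν.app M
  have hn : ∀ {M M' : X.Modules} (φ : M ⟶ M'),
      (M1.stalkAb y).map ((Scheme.Modules.restrictFunctor V.ι).map φ) ≫ (n M').hom = (n M).hom ≫ (M1.stalkAb x).map φ :=
    fun φ => ν.hom.naturality φ
  let θ : (M1.stalkAb x).obj G ≅ (M1.stalkAb x).obj P := (n G).symm ≪≫ (M1.stalkAb y).mapIso e ≪≫ n P
  have hcomm : ∀ c : A, (M1.stalkAb x).map (Formal.smulMod A G c) ≫ θ.hom =
      θ.hom ≫ (M1.stalkAb x).map (Formal.smulMod A P c) := fun c => by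
    have h1 : (Scheme.Modules.restrictFunctor V.ι).map (Formal.smulMod A G c) ≫ e.hom =
        e.hom ≫ (Scheme.Modules.restrictFunctor V.ι).map (Formal.smulMod A P c) := by
      rw [show Formal.smulMod A G c = Formal.smulModΓ G _ from rfl,
        show Formal.smulMod A P c = Formal.smulModΓ P _ from rfl,
        PunctFree27.restrict_map_smulModΓ, PunctFree27.restrict_map_smulModΓ]
      refine Scheme.Modules.hom_ext _ _ fun U => ?_
      ext s
      exact e.hom.app_smul _ s
    simp only [θ, Iso.trans_hom, Iso.symm_hom, Functor.mapIso_hom, Category.assoc]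
    rw [← cancel_epi (n G).hom, ← Category.assoc (n G).hom, ← hn (Formal.smulMod A G c), Category.assoc, Iso.hom_inv_id_assoc,
      Iso.hom_inv_id_assoc, ← hn (Formal.smulMod A P c), ← Functor.map_comp_assoc, h1, Functor.map_comp_assoc]
  obtain ⟨w, hw⟩ := hP (θ.hom z) ((ConcreteCategory.congr_hom (hcomm b) z).symm.trans
    ((congrArg θ.hom hz).trans (map_zero _)))
  refine ⟨θ.inv w, θ.addCommGroupIsoToAddEquiv.injective ?_⟩
  show θ.hom _ = θ.hom z
  refine (ConcreteCategory.congr_hom (hcomm a) (θ.inv w)).trans ?_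
  rw [ConcreteCategory.comp_apply, Iso.inv_hom_id_apply]
  exact hw

/-- Systems locally free over the neighbourhoods of a regular element are regular. -/
theorem isReg_of_locallyFree {G : ℕᵒᵖ ⥤ X.Modules} (hP : ∀ r, Mono (Formal.smulMod A (FlatMod.freeMod X r) t))
    (hfree : ∀ n, Formal2.IsFinLocFreeMod (Ideal.span {t}) (n + 1) (G.obj (op n))) : IsReg t G := by
  intro N x z _ hz
  obtain ⟨V, r, hx, ⟨e⟩⟩ := hfree N x
  exact exists_div_of_restrict V e t (t ^ N) hx (exists_div_modPow (hP r) N x) z hz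

/-- Quotient maps can be precomposed with isomorphisms. -/
theorem isQuot_iso_comp {L : Ideal A} {M M' Q : X.Modules} {p : M ⟶ Q} (h : IsQuot L p) (θ : M' ≅ M) :
    IsQuot L (θ.hom ≫ p) := by
  haveI := h.epi
  refine ⟨epi_comp _ _, fun c hc => ?_, fun φ hφ => ?_⟩
  · rw [smulMod_naturality_assoc, h.smul c hc, comp_zero]
  · obtain ⟨φ', hφ'⟩ := h.desc (θ.inv ≫ φ) fun c hc => by rw [smulMod_naturality_assoc, hφ c hc, comp_zero]
    exact ⟨φ', by rw [Category.assoc, hφ', Iso.hom_inv_id_assoc]⟩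

end stalks

section free

variable {A : Type u} [CommRing A] {I : Ideal A}

/-- Free modules are sheaves of free modules. -/
def freeTR (r : ℕ) : (tR I).obj (ModuleCat.of A (Fin r → A)) ≅ FlatMod.freeMod (PU I) r :=
  haveI : (tilde.functor (CommRingCat.of A)).IsLeftAdjoint := tilde.adjunction.isLeftAdjoint
  (tR I).mapIso ((ModuleCat.biproductIsoPi (fun _ : Fin r => ModuleCat.of A A)).symm ≪≫
    biproduct.isoCoproduct _) ≪≫
  (Scheme.Modules.restrictFunctor (LocCoh.puncturedOpen A I).ι).mapIso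
    (PreservesCoproduct.iso (tilde.functor (CommRingCat.of A)) _ ≪≫
      Sigma.mapIso fun _ => tildeSelf (R := CommRingCat.of A)) ≪≫
  M2.freeModRestrictIso _ r

variable [IsNoetherianRing A] {t : A}

theorem mono_smulMod_free (ht : t ∈ nonZeroDivisors A) (r : ℕ) :
    Mono (Formal.smulMod A (FlatMod.freeMod (PU I) r) t) := by
  have h1 : Formal.smulMod A (FlatMod.freeMod (PU I) r) t =
      (freeTR r).inv ≫ Formal.smulMod A ((tR I).obj (ModuleCat.of A (Fin r → A))) t ≫ (freeTR r).hom := by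
    rw [smulMod_naturality, Iso.inv_hom_id_assoc]
  rw [h1, ← tR_map_smul]
  haveI : Mono ((tR I).map (ModuleCat.ofHom (t • LinearMap.id : (Fin r → A) →ₗ[A] (Fin r → A)))) := by
    haveI : PreservesFiniteLimits (tilde.functor (CommRingCat.of A)) := M1.tilde_preservesFiniteLimits
    haveI : Mono (ModuleCat.ofHom (R := A) (t • LinearMap.id : (Fin r → A) →ₗ[A] (Fin r → A))) :=
      (ModuleCat.mono_iff_injective _).2 fun x y h => funext fun i =>
        (mul_cancel_left_mem_nonZeroDivisors ht).1 (congrFun h i)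
    haveI : Mono ((tilde.functor (CommRingCat.of A)).map
        (ModuleCat.ofHom (t • LinearMap.id : (Fin r → A) →ₗ[A] (Fin r → A)))) := Functor.map_mono _ _
    exact Functor.map_mono (Scheme.Modules.restrictFunctor _) _
  exact mono_comp _ _

set_option maxHeartbeats 1000000 in
/-- The quotient of a free module by a regular element. -/
theorem exists_quotient_iso (ht : t ∈ nonZeroDivisors A) (r : ℕ) :
    Nonempty (Formal.modPow (Ideal.span {t}) 1 (FlatMod.freeMod (PU I) r) ≅
      (tR I).obj (ModuleCat.of A (Fin r → A ⧸ Ideal.span {t}))) := by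
  let L : ModuleCat.{u} (CommRingCat.of A) := ModuleCat.of A (Fin r → A)
  let L' : ModuleCat.{u} (CommRingCat.of A) := ModuleCat.of A (Fin r → A ⧸ Ideal.span {t})
  let μ : L ⟶ L := ModuleCat.ofHom (t • LinearMap.id : L →ₗ[A] L)
  let π : L ⟶ L' := ModuleCat.ofHom (LinearMap.pi fun i => (Ideal.span {t}).mkQ ∘ₗ LinearMap.proj i :
    (Fin r → A) →ₗ[A] (Fin r → A ⧸ Ideal.span {t}))
  haveI : Epi π := (ModuleCat.epi_iff_surjective _).2 fun y =>
    ⟨fun i => Quotient.out (y i), funext fun i => Quotient.out_eq (y i)⟩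
  let S : ShortComplex (ModuleCat.{u} (CommRingCat.of A)) := ShortComplex.mk μ π (ModuleCat.hom_ext (LinearMap.ext fun x => funext fun i =>
    (Submodule.Quotient.mk_eq_zero _).2 (Ideal.mem_span_singleton'.2 ⟨x i, mul_comm _ _⟩)))
  have hS : S.Exact := (ShortComplex.moduleCat_exact_iff _).2 fun x hx => by
    have : ∀ i, ∃ y, y * t = x i := fun i =>
      Ideal.mem_span_singleton'.1 ((Submodule.Quotient.mk_eq_zero _).1 (congrFun hx i))
    choose y hy using this
    exact ⟨y, funext fun i => (mul_comm _ _).trans (hy i)⟩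
  obtain ⟨w, hw⟩ := tildeR_exact (R := CommRingCat.of A) (LocCoh.puncturedOpen A I) S hS
  haveI : Epi ((tR I).map π) := tildeR_epi (R := CommRingCat.of A) _ π
  have hμ : (tR I).map μ = Formal.smulMod A ((tR I).obj _) t := tR_map_smul L t
  have hz : Formal.smulMod A ((tR I).obj _) t ≫ (tR I).map π = 0 := hμ ▸ w
  have hq : IsQuot (Ideal.span {t}) ((tR I).map π) := isQuot_span_singleton hz (by
    revert hw
    revert w
    rw [show (tR I).map S.f = Formal.smulMod A ((tR I).obj _) t from hμ]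
    exact fun _ h => h)
  obtain ⟨θ⟩ : Nonempty ((tR I).obj (ModuleCat.of A (Fin r → A)) ≅ FlatMod.freeMod (PU I) r) := ⟨freeTR r⟩
  have hm := isQuot_modPowπ (Ideal.span {t}) 1 (FlatMod.freeMod (PU I) r)
  rw [pow_one] at hm
  obtain ⟨e, -⟩ := (isQuot_iso_comp hm θ).exists_iso hq
  exact ⟨e⟩

/-- Local isomorphisms of sheaves of modules are localized isomorphisms. -/
theorem exists_localized_equiv {N Q : ModuleCat.{u} (CommRingCat.of A)} (V : (PU I).Opens) {p : PrimeSpectrum A}
    (hp : p ∈ LocCoh.puncturedOpen A I) (hpV : (⟨p, hp⟩ : PU I) ∈ V)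
    (e : ((tR I).obj N).restrict V.ι ≅ ((tR I).obj Q).restrict V.ι) :
    ∃ g : A, g ∉ p.asIdeal ∧
      Nonempty (LocalizedModule (Submonoid.powers g) N ≃ₗ[A] LocalizedModule (Submonoid.powers g) Q) := by
  let R := CommRingCat.of A
  let W : (Spec R).Opens := (LocCoh.puncturedOpen A I).ι ''ᵁ V
  obtain ⟨_, ⟨g, rfl⟩, hpg, hgW⟩ := PrimeSpectrum.isTopologicalBasis_basic_opens.exists_subset_of_mem_open
    (show p ∈ W.carrier from ⟨⟨p, hp⟩, hpV, rfl⟩) W.is_open'
  refine ⟨g, hpg, ?_⟩
  let ψ : R ⟶ CommRingCat.of (Localization (Submonoid.powers (g : R))) :=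
    CommRingCat.ofHom (algebraMap R (Localization (Submonoid.powers (g : R))))
  haveI : IsOpenImmersion (Spec.map ψ) := IsOpenImmersion.of_isLocalization (g : R)
  let j := V.ι ≫ (LocCoh.puncturedOpen A I).ι
  have hrange : Set.range (Spec.map ψ) ⊆ Set.range j := by
    show Set.range (PrimeSpectrum.comap (algebraMap A (Localization (Submonoid.powers g)))) ⊆ _
    rw [PrimeSpectrum.localization_away_comap_range (S := Localization.Away g) g]
    intro x hx
    obtain ⟨y, hy, rfl⟩ := hgW hx
    exact ⟨⟨y, hy⟩, rfl⟩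
  let E := fun (M : ModuleCat.{u} R) => (ModuleCat.extendScalars ψ.hom).obj M
  let ε : ∀ M : ModuleCat.{u} R, (((tR I).obj M).restrict V.ι).restrict (IsOpenImmersion.lift j (Spec.map ψ) hrange) ≅
      tilde (E M) := fun M =>
    (Scheme.Modules.restrictFunctor (IsOpenImmersion.lift j (Spec.map ψ) hrange)).mapIso
      (M1.restrictRestrictIso (tilde M) (LocCoh.puncturedOpen A I).ι V.ι j rfl) ≪≫
    M1.restrictLiftIso (tilde M) j (Spec.map ψ) hrange ≪≫
      (Scheme.Modules.restrictFunctorIsoPullback (Spec.map ψ)).app (tilde M) ≪≫ M1.tildePullbackObjIso ψ M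
  let eE : E N ≅ E Q := tilde.fullyFaithfulFunctor.preimageIso
    ((ε N).symm ≪≫ (Scheme.Modules.restrictFunctor (IsOpenImmersion.lift j (Spec.map ψ) hrange)).mapIso e ≪≫ ε Q)
  obtain ⟨eN⟩ := PunctFree27.nonempty_extend_equiv N (g : R)
  obtain ⟨eQ⟩ := PunctFree27.nonempty_extend_equiv Q (g : R)
  exact ⟨((eN.symm.trans eE.toLinearEquiv).trans eQ).restrictScalars A⟩

/-- Algebraization of formal locally free systems along a regular element. -/
theorem algebraizable_of_locallyFree (ht : t ∈ nonZeroDivisors A) [IsAdicComplete (Ideal.span {t}) A]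
    (G : ℕᵒᵖ ⥤ (PU I).Modules) (hG : IsSys (Ideal.span {t}) G)
    (hfree : ∀ n, Formal2.IsFinLocFreeMod (Ideal.span {t}) (n + 1) (G.obj (op n)))
    (h₁ : Module.Finite A (LocCoh.H I 1 (A ⧸ Ideal.span {t})))
    (h₂ : Module.Finite A (LocCoh.H I 2 (A ⧸ Ideal.span {t}))) : Algebraizable (Ideal.span {t}) G := by
  obtain ⟨N, hN, ⟨e⟩⟩ := PunctFree27.exists_finite_model I (G.obj (op 0)) (hG.coh 0)
  haveI := hN
  have hT : ∀ i, i ≤ 2 → Module.Finite A (LocCoh.H I i (A ⧸ Ideal.span {t})) := fun i hi => by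
    interval_cases i
    · exact LocCohLib.finite_H_zero I _
    · exact h₁
    · exact h₂
  have hH : ∀ i, i ≤ 2 → Module.Finite A (LocCoh.H I i N) := by
    refine finite_H_of_local_summand I 2 hT fun p hp => ?_
    obtain ⟨V, r, hpV, ⟨eV⟩⟩ := hfree 0 ⟨p, hp⟩
    obtain ⟨eq⟩ := exists_quotient_iso (I := I) ht r
    let e' : ((tR I).obj N).restrict V.ι ≅ ((tR I).obj (ModuleCat.of A (Fin r → A ⧸ Ideal.span {t}))).restrict V.ι :=
      (Scheme.Modules.restrictFunctor V.ι).mapIso e ≪≫ eV ≪≫ (Scheme.Modules.restrictFunctor V.ι).mapIso eq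
    obtain ⟨g, hg, he⟩ := exists_localized_equiv V hp hpV e'
    exact ⟨g, r, hg, he⟩
  refine algebraizable hG (isReg_of_locallyFree (mono_smulMod_free ht) hfree) ?_ ?_
  · refine finite_HH_of_finite_H I (G.obj (op 0)) N e 0 fun j hj => hH j (by omega)
  · refine finite_HH_of_finite_H I (G.obj (op 0)) N e 1 fun j hj => hH j (by omega)

end free

end Groth.Agent.ComplFormalH7
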