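import Groth.Agent.Lib.PunctFree27.Coherent
import Groth.Agent.Lib.ModM1.Push
import Groth.Agent.Lib.PunctFree27.Annihilated
import Groth.Agent.Lib.CurveCoh17.Skyscraper
import Groth.Agent.Lib.DVRTriv4.Seq
import Groth.Agent.Lib.FormalH7.ModPow

/-!
# Sections on a punctured affine scheme as modules over the ring
-/

set_option autoImplicit false
set_option linter.style.haveILetI false
set_option backward.isDefEq.respectTransparency false
set_option backward.isDefEq.respectTransparency.types false

universe u

open CategoryTheory CategoryTheory.Limits AlgebraicGeometry Opposite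

noncomputable section

namespace Groth.Agent.ComplFormalH7

open Groth.Agent

section general

variable {R : CommRingCat.{u}} (U : (Spec R).Opens)

/-- The restriction of `tilde`. -/
abbrev tildeR : ModuleCat.{u} R ⥤ (↑U : Scheme.{u}).Modules :=
  tilde.functor R ⋙ Scheme.Modules.restrictFunctor U.ι

/-- Sections on the open, as a module over the ring. -/
def secR : (↑U : Scheme.{u}).Modules ⥤ ModuleCat.{u} R :=
  Scheme.Modules.pushforward U.ι ⋙ moduleSpecΓFunctor (R := R)

instance additive_secR : (secR U).Additive := by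
  unfold secR
  haveI : (moduleSpecΓFunctor (R := R)).IsRightAdjoint := tilde.adjunction.isRightAdjoint
  haveI : (moduleSpecΓFunctor (R := R)).Additive := Functor.additive_of_preserves_binary_products _
  infer_instance

/-- A module of sections gives back the sheaf. -/
def epsR : secR U ⋙ tildeR U ⟶ 𝟭 _ :=
  Functor.whiskerRight (Functor.whiskerLeft (Scheme.Modules.pushforward U.ι)
    (Scheme.Modules.fromTildeΓNatTrans (R := R))) (Scheme.Modules.restrictFunctor U.ι) ≫
    (Scheme.Modules.restrictAdjunction U.ι).counit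

theorem isIso_epsR [QuasiCompact U.ι] (G : (↑U : Scheme.{u}).Modules) (hG : Coh.IsQCoh G) :
    IsIso ((epsR U).app G) := by
  have hQ : Coh.IsQCoh ((Scheme.Modules.pushforward U.ι).obj G) := M1.isQCoh_push U.ι hG
  haveI : IsIso ((Scheme.Modules.fromTildeΓNatTrans (R := R)).app ((Scheme.Modules.pushforward U.ι).obj G)) :=
    @Scheme.Modules.isIso_fromTildeΓ_of_isQuasicoherent R _ hQ
  dsimp [epsR]
  infer_instance

/-- Exactness of the sheaf functor. -/
theorem tildeR_exact (S : ShortComplex (ModuleCat.{u} R)) (hS : S.Exact) :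
    ∃ w : (tildeR U).map S.f ≫ (tildeR U).map S.g = 0, (ShortComplex.mk _ _ w).Exact := by
  haveI : PreservesFiniteLimits (tilde.functor R) := M1.tilde_preservesFiniteLimits
  haveI : PreservesFiniteLimits (Scheme.Modules.restrictFunctor U.ι) := inferInstance
  exact ⟨_, (hS.map (tilde.functor R)).map (Scheme.Modules.restrictFunctor U.ι)⟩

/-- Preservation of epimorphisms. -/
theorem tildeR_epi {N N' : ModuleCat.{u} R} (φ : N ⟶ N') [Epi φ] : Epi ((tildeR U).map φ) := by
  haveI : (tilde.functor R).IsLeftAdjoint := tilde.adjunction.isLeftAdjoint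
  haveI : Epi ((tilde.functor R).map φ) := Functor.map_epi _ _
  exact Functor.map_epi (Scheme.Modules.restrictFunctor U.ι) _

end general

variable {A : Type u} [CommRing A] (I : Ideal A)

/-- The punctured scheme. -/
abbrev PU : Scheme.{u} := ↑(LocCoh.puncturedOpen A I)

/-- Sections on the punctured scheme, as an `A`-module. -/
abbrev secF : (PU I).Modules ⥤ ModuleCat.{u} (CommRingCat.of A) :=
  secR (R := CommRingCat.of A) (LocCoh.puncturedOpen A I)

variable {I}

/-- Sections in degree zero cohomology. -/
def e0 (G : (PU I).Modules) : Coh.HH (PU I) G 0 ≃+ ((secF I).obj G : Type u) := CurveCoh17.hh0 G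

theorem e0_hmap {G H : (PU I).Modules} (φ : G ⟶ H) (x : Coh.HH (PU I) G 0) :
    e0 H (CurveCoh17.hmap A φ 0 x) = (secF I).map φ (e0 G x) :=
  CurveCoh17.hh0_hmap A φ x

theorem secF_map_smulMod (G : (PU I).Modules) (a : A) (x : (secF I).obj G) :
    (secF I).map (Formal.smulMod A G a) x = a • x := by
  refine Eq.trans ?_ (Scheme.Modules.smul_Spec_def (R := CommRingCat.of A)
    (M := (Scheme.Modules.pushforward (LocCoh.puncturedOpen A I).ι).obj G) (U := ⊤) a x).symm
  show (show Γ(PU I, (LocCoh.puncturedOpen A I).ι ⁻¹ᵁ ⊤) from FormalH7.mult (PU I) a _) • (show Γ(G, (LocCoh.puncturedOpen A I).ι ⁻¹ᵁ ⊤) from x) =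
    (LocCoh.puncturedOpen A I).ι.app ⊤ _ • (show Γ(G, (LocCoh.puncturedOpen A I).ι ⁻¹ᵁ ⊤) from x)
  congr 1

theorem e0_smul (G : (PU I).Modules) (a : A) (x : Coh.HH (PU I) G 0) : e0 G (a • x) = a • e0 G x := by
  rw [← DVRTriv4.hmap_smulMod A G a 0 x, e0_hmap, secF_map_smulMod]

/-- Sections in degree zero cohomology, linearly. -/
def e0L (G : (PU I).Modules) : Coh.HH (PU I) G 0 ≃ₗ[A] ((secF I).obj G : Type u) :=
  { e0 G with map_smul' := e0_smul G }

end Groth.Agent.ComplFormalH7
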