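import Groth.Agent.Lib.ComplFormalH7.System
import Groth.Agent.Lib.ComplFormalH7.Gamma

/-!
# Stabilization of sections along a system, when first cohomology of the bottom level is finite
-/

set_option autoImplicit false
set_option linter.style.haveILetI false
set_option backward.isDefEq.respectTransparency false

universe u

open CategoryTheory CategoryTheory.Limits AlgebraicGeometry Opposite

noncomputable section

namespace Groth.Agent.ComplFormalH7

open Groth.Agent Groth.Agent.GExistH7 Groth.Agent.FormalH7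

variable {A : Type u} [CommRing A] {X : Scheme.{u}} [X.Over (Spec (CommRingCat.of A))] {t : A}
  {G : ℕᵒᵖ ⥤ X.Modules} (hG : IsSys (Ideal.span {t}) G)

/-- The classes of the bottom level killed in level `m + 1`. -/
def killedIn (m : ℕ) : Submodule A (Coh.HH X (G.obj (op 0)) 1) :=
  LinearMap.ker (CurveCoh17.hmap A (iota hG (show 0 + m + 1 = m + 1 by omega)) 1)

theorem killedIn_mono (m : ℕ) : killedIn hG m ≤ killedIn hG (m + 1) := by
  intro o ho
  rw [killedIn, LinearMap.mem_ker] at ho ⊢
  rw [← iota_comp_iota hG (show 0 + m + 1 = m + 1 by omega) (c := 0) (show m + 1 + 0 + 1 = m + 1 + 1 by omega),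
    CurveCoh17.hmap_comp, ho, map_zero]

theorem exists_stable [IsNoetherianRing A] (hfin : Module.Finite A (Coh.HH X (G.obj (op 0)) 1)) :
    ∃ d, ∀ m, killedIn hG m ≤ killedIn hG d := by
  let K : ℕ →o Submodule A (Coh.HH X (G.obj (op 0)) 1) :=
    ⟨killedIn hG, monotone_nat_of_le_succ (killedIn_mono hG)⟩
  obtain ⟨c, hc⟩ := monotone_stabilizes_iff_noetherian.2 inferInstance K
  refine ⟨c, fun m => ?_⟩
  rcases le_total m c with h | h
  · exact K.monotone h
  · exact le_of_eq (hc m h).symm

/-- Images of deep levels lift one level deeper. -/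
theorem exists_lift_succ (hreg : IsReg t G) {d : ℕ} (hd : ∀ m, killedIn hG m ≤ killedIn hG d) {n N : ℕ}
    (hN : N = n + (d + 1)) (x : Coh.HH X (G.obj (op N)) 0) :
    ∃ x' : Coh.HH X (G.obj (op (N + 1))) 0,
      CurveCoh17.hmap A (gm G (show n ≤ N + 1 by omega)) 0 x' =
        CurveCoh17.hmap A (gm G (show n ≤ N by omega)) 0 x := by
  have hA := shortExact_levSeq hG hreg (show 0 + N + 1 = N + 1 by omega)
  have hB := shortExact_levSeq hG hreg (show (d + 1) + n + 1 = N + 1 by omega)
  let φ : levSeq hG (show 0 + N + 1 = N + 1 by omega) ⟶ levSeq hG (show (d + 1) + n + 1 = N + 1 by omega) :=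
    { τ₁ := iota hG (show 0 + d + 1 = d + 1 by omega)
      τ₂ := 𝟙 _
      τ₃ := gm G (show n ≤ N by omega)
      comm₁₂ := (iota_comp_iota hG _ (show (d + 1) + n + 1 = N + 1 by omega) (show 0 + N + 1 = N + 1 by omega)).trans (Category.comp_id _).symm
      comm₂₃ := (Category.id_comp _).trans (gm_comp G _ _).symm }
  let o := CurveCoh17.hdelta A hA 0 x
  have ho : CurveCoh17.hmap A φ.τ₁ 1 o = 0 :=
    LinearMap.mem_ker.1 (hd N (LinearMap.mem_ker.2 ((CurveCoh17.exact_hdelta_hmap A hA 0 o).2 ⟨x, rfl⟩)))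
  exact (CurveCoh17.exact_hmap_hdelta A hB 0 _).1 ((DVRTriv4.hdelta_natural A hA hB φ 0 x).symm.trans ho)

end Groth.Agent.ComplFormalH7
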