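import Groth.Agent.Lib.GExistH7.Sys
import Groth.Agent.Lib.FormalH7.ModLim
import Groth.Agent.Lib.ModM1.Exact
import Groth.Agent.Lib.CohFound.DevissageModel
import Groth.Agent.Lib.ModM1.ClosedImm
import Mathlib.Algebra.Homology.ImageToKernel

/-!
# Systems of modules along a regular element
-/

set_option autoImplicit false
set_option linter.style.haveILetI false
set_option backward.isDefEq.respectTransparency false

universe u

open CategoryTheory CategoryTheory.Limits AlgebraicGeometry Opposite

noncomputable section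

namespace Groth.Agent.ComplFormalH7

open Groth.Agent Groth.Agent.GExistH7 Groth.Agent.FormalH7

variable {A : Type u} [CommRing A] {X : Scheme.{u}} [X.Over (Spec (CommRingCat.of A))]

/-- Multiplication on a stalk. -/
abbrev sm (M : X.Modules) (a : A) (x : X) : (M1.stalkAb x).obj M ⟶ (M1.stalkAb x).obj M :=
  (M1.stalkAb x).map (Formal.smulMod A M a)

theorem sm_mul (M : X.Modules) (a b : A) (x : X) (z : (M1.stalkAb x).obj M) :
    sm M (a * b) x z = sm M a x (sm M b x z) := by
  show (M1.stalkAb x).map (Formal.smulMod A M (a * b)) z = _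
  rw [FormalH7.smulMod_mul, Functor.map_comp]
  rfl

theorem sm_natural {M N : X.Modules} (φ : M ⟶ N) (a : A) (x : X) (z : (M1.stalkAb x).obj M) :
    (M1.stalkAb x).map φ (sm M a x z) = sm N a x ((M1.stalkAb x).map φ z) := by
  show ((M1.stalkAb x).map (Formal.smulMod A M a) ≫ (M1.stalkAb x).map φ) z =
    ((M1.stalkAb x).map φ ≫ (M1.stalkAb x).map (Formal.smulMod A N a)) z
  rw [← Functor.map_comp, ← Functor.map_comp, smulMod_naturality]

theorem sm_one (M : X.Modules) (x : X) (z : (M1.stalkAb x).obj M) : sm M (1 : A) x z = z := by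
  show (M1.stalkAb x).map (Formal.smulMod A M 1) z = z
  rw [FormalH7.smulMod_one, CategoryTheory.Functor.map_id]
  rfl

variable (t : A) (G : ℕᵒᵖ ⥤ X.Modules)

/-- Every level is flat over the corresponding quotient of `A[t]`. -/
def IsReg : Prop :=
  ∀ (N : ℕ) (x : X) (z : (M1.stalkAb x).obj (G.obj (op N))), 1 ≤ N → sm _ (t ^ N) x z = 0 →
    ∃ w, sm _ t x w = z

variable {t G}

theorem exists_div (hreg : IsReg t G) (M j : ℕ) (hj : j ≤ M) (x : X) (z : (M1.stalkAb x).obj (G.obj (op M)))
    (hz : sm _ (t ^ j) x z = 0) : ∃ w, sm _ (t ^ (M + 1 - j)) x w = z := by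
  rcases Nat.eq_zero_or_pos j with rfl | hj0
  · refine ⟨0, ?_⟩
    rw [map_zero]
    rw [pow_zero, sm_one] at hz
    exact hz.symm
  suffices h : ∀ i, i ≤ M + 1 - j → ∃ w, sm _ (t ^ i) x w = z from h _ le_rfl
  intro i
  induction i with
  | zero => exact fun _ => ⟨z, by rw [pow_zero, sm_one]⟩
  | succ i ih =>
    intro hi
    obtain ⟨w, hw⟩ := ih (by omega)
    obtain ⟨v, hv⟩ := hreg M x w (by omega) (by
      rw [show t ^ M = t ^ (M - (j + i)) * (t ^ j * t ^ i) by
        rw [← pow_add, ← pow_add, show M - (j + i) + (j + i) = M by omega]]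
      rw [sm_mul, sm_mul, hw, hz, map_zero])
    exact ⟨v, by rw [pow_succ, sm_mul, hv, hw]⟩

variable (hG : IsSys (Ideal.span {t}) G)
include hG

theorem exists_iota {a b M : ℕ} (h : a + b + 1 = M) :
    ∃ j : G.obj (op a) ⟶ G.obj (op M),
      gm G (show a ≤ M by omega) ≫ j = Formal.smulMod A _ (t ^ (b + 1)) := by
  refine (hG.quot_gm _).desc _ fun c hc => ?_
  rw [← FormalH7.smulMod_mul]
  refine hG.killed M _ ?_
  rw [Ideal.span_singleton_pow, Ideal.mem_span_singleton] at hc ⊢
  obtain ⟨d, rfl⟩ := hc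
  exact ⟨d, by rw [← h]; ring⟩

/-- The inclusion of a lower level as a multiple of a power of `t`. -/
def iota {a b M : ℕ} (h : a + b + 1 = M) : G.obj (op a) ⟶ G.obj (op M) := (exists_iota hG h).choose

@[reassoc]
theorem gm_iota {a b M : ℕ} (h : a + b + 1 = M) :
    gm G (show a ≤ M by omega) ≫ iota hG h = Formal.smulMod A _ (t ^ (b + 1)) :=
  (exists_iota hG h).choose_spec

theorem eq_iota {a b M : ℕ} (h : a + b + 1 = M) (j : G.obj (op a) ⟶ G.obj (op M))
    (hj : gm G (show a ≤ M by omega) ≫ j = Formal.smulMod A _ (t ^ (b + 1))) : j = iota hG h := by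
  haveI := (hG.quot_gm (show a ≤ M by omega)).epi
  rw [← cancel_epi (gm G (show a ≤ M by omega)), hj, gm_iota]

theorem iota_comp_iota {a b M c b' P : ℕ} (h : a + b + 1 = M) (h' : M + c + 1 = P) (h'' : a + b' + 1 = P) :
    iota hG h ≫ iota hG h' = iota hG h'' := by
  refine eq_iota hG h'' _ ?_
  rw [← gm_comp G (show a ≤ M by omega) (show M ≤ P by omega), Category.assoc, gm_iota_assoc, smulMod_naturality,
    gm_iota_assoc, ← FormalH7.smulMod_mul, ← pow_add, show b + 1 + (c + 1) = b' + 1 by omega]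

theorem iota_gm_zero {a b M : ℕ} (h : a + b + 1 = M) : iota hG h ≫ gm G (show b ≤ M by omega) = 0 := by
  haveI := (hG.quot_gm (show a ≤ M by omega)).epi
  rw [← cancel_epi (gm G (show a ≤ M by omega)), gm_iota_assoc, comp_zero, smulMod_naturality,
    hG.killed b _ (Ideal.pow_mem_pow (Ideal.mem_span_singleton_self t) _), comp_zero]

/-- Multiplication of levels commutes with projection. -/
theorem iota_gm {a b M a' M' : ℕ} (h : a + b + 1 = M) (h' : a' + b + 1 = M') (ha : a' ≤ a) :
    iota hG h ≫ gm G (show M' ≤ M by omega) = gm G ha ≫ iota hG h' := by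
  haveI := (hG.quot_gm (show a ≤ M by omega)).epi
  rw [← cancel_epi (gm G (show a ≤ M by omega)), gm_iota_assoc, smulMod_naturality, ← Category.assoc, gm_comp,
    ← gm_comp G (show a' ≤ M' by omega) (show M' ≤ M by omega), Category.assoc, gm_iota]

theorem iota_gm_self {a b M : ℕ} (h : a + b + 1 = M) :
    iota hG h ≫ gm G (show a ≤ M by omega) = Formal.smulMod A _ (t ^ (b + 1)) := by
  haveI := (hG.quot_gm (show a ≤ M by omega)).epi
  rw [← cancel_epi (gm G (show a ≤ M by omega)), gm_iota_assoc, smulMod_naturality]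

theorem mono_iota (hreg : IsReg t G) {a b M : ℕ} (h : a + b + 1 = M) : Mono (iota hG h) := by
  refine (M1.mono_iff_stalk _).2 fun x => ?_
  rw [injective_iff_map_eq_zero]
  intro y hy
  haveI := (hG.quot_gm (show a ≤ M by omega)).epi
  obtain ⟨z, rfl⟩ := (M1.epi_iff_stalk (gm G (show a ≤ M by omega))).1 inferInstance x y
  have h0 : sm _ (t ^ (b + 1)) x z = 0 := by
    show (M1.stalkAb x).map (Formal.smulMod A _ (t ^ (b + 1))) z = 0
    rw [← gm_iota hG h, Functor.map_comp]
    exact hy
  obtain ⟨w, rfl⟩ := exists_div hreg M (b + 1) (by omega) x z h0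
  rw [sm_natural]
  show (M1.stalkAb x).map (Formal.smulMod A (G.obj (op a)) _) _ = 0
  rw [show M + 1 - (b + 1) = a + 1 by omega,
    hG.killed a _ (Ideal.pow_mem_pow (Ideal.mem_span_singleton_self t) _), Functor.map_zero]
  rfl

/-- The sequence of levels. -/
def levSeq {a b M : ℕ} (h : a + b + 1 = M) : ShortComplex X.Modules :=
  ShortComplex.mk (iota hG h) (gm G (show b ≤ M by omega)) (iota_gm_zero hG h)

theorem shortExact_levSeq (hreg : IsReg t G) {a b M : ℕ} (h : a + b + 1 = M) : (levSeq hG h).ShortExact := by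
  have hq : IsQuot (Ideal.span {t ^ (b + 1)}) (gm G (show b ≤ M by omega)) := by
    rw [← Ideal.span_singleton_pow]
    exact hG.quot_gm _
  let S := ShortComplex.mk _ _ (hq.smul _ (Ideal.mem_span_singleton_self (t ^ (b + 1))))
  let φ : S ⟶ levSeq hG h :=
    { τ₁ := gm G (show a ≤ M by omega)
      τ₂ := 𝟙 _
      τ₃ := 𝟙 _
      comm₁₂ := (gm_iota hG h).trans (Category.comp_id _).symm
      comm₂₃ := (Category.id_comp _).trans (Category.comp_id _).symm }
  haveI : Epi φ.τ₁ := (hG.quot_gm (show a ≤ M by omega)).epi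
  haveI : IsIso φ.τ₂ := inferInstanceAs (IsIso (𝟙 _))
  haveI : Mono φ.τ₃ := inferInstanceAs (Mono (𝟙 _))
  exact { exact := (ShortComplex.exact_iff_of_epi_of_isIso_of_mono φ).1 hq.exact_span_singleton
          mono_f := mono_iota hG hreg h
          epi_g := (hG.quot_gm (show b ≤ M by omega)).epi }

end Groth.Agent.ComplFormalH7

namespace Groth.Agent.ComplFormalH7

open Groth.Agent Groth.Agent.FormalH7

variable {A : Type u} [CommRing A] {Y : Scheme.{u}} [Y.Over (Spec (CommRingCat.of A))]

theorem exact_of_kernelSubobject_eq {C : Type*} [Category C] [Abelian C] {P Q R : C} {f : P ⟶ Q} {g : Q ⟶ R}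
    (h : kernelSubobject g = imageSubobject f) : ∃ w : f ≫ g = 0, (ShortComplex.mk f g w).Exact := by
  have w : f ≫ g = 0 := by
    rw [← imageSubobject_arrow_comp f, Category.assoc,
      ← Subobject.ofLE_arrow (le_of_eq h.symm), Category.assoc, kernelSubobject_arrow_comp, comp_zero, comp_zero]
  refine ⟨w, (ShortComplex.mk f g w).exact_iff_kernel_ι_comp_cokernel_π_zero.2 ?_⟩
  show kernel.ι g ≫ cokernel.π f = 0
  have h2 : (imageSubobject f).arrow ≫ cokernel.π f = 0 := by
    rw [← cancel_epi (factorThruImageSubobject f), imageSubobject_arrow_comp_assoc, cokernel.condition, comp_zero]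
  rw [← kernelSubobject_arrow' g, Category.assoc, ← Subobject.ofLE_arrow (le_of_eq h), Category.assoc, h2,
    comp_zero, comp_zero]

/-- Exactness of multiplication on stalks of a direct image along a closed immersion. -/
theorem exists_div_push {X : Scheme.{u}} [X.Over (Spec (CommRingCat.of A))] (q : Y ⟶ X) [IsClosedImmersion q]
    (hq : q ≫ (X ↘ Spec (CommRingCat.of A)) = Y ↘ Spec (CommRingCat.of A)) (F : Y.Modules) {a b : A}
    {w : Formal.smulMod A F a ≫ Formal.smulMod A F b = 0} (hex : (ShortComplex.mk _ _ w).Exact) (x : X)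
    (z : (M1.stalkAb x).obj ((Scheme.Modules.pushforward q).obj F))
    (hz : sm ((Scheme.Modules.pushforward q).obj F) b x z = 0) :
    ∃ v, sm ((Scheme.Modules.pushforward q).obj F) a x v = z := by
  by_cases hx : x ∈ Set.range q
  swap
  · exact ⟨0, by rw [map_zero]; exact (M1.eq_zero_stalk_push q F hx z).symm⟩
  obtain ⟨y, rfl⟩ := hx
  have hnat : ∀ (c : A) (v : (M1.stalkAb (q y)).obj ((Scheme.Modules.pushforward q).obj F)),
      CohFound.pushStalk q F y (sm ((Scheme.Modules.pushforward q).obj F) c (q y) v) =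
        sm F c y (CohFound.pushStalk q F y v) := fun c v => by
    show CohFound.pushStalk q F y ((M1.stalkAb (q y)).map (Formal.smulMod A ((Scheme.Modules.pushforward q).obj F) c) v) = _
    rw [← FormalH7.pushforward_map_smulMod q hq]
    obtain ⟨U, hU, s, rfl⟩ := ((Scheme.Modules.pushforward q).obj F).presheaf.exists_germ_eq v
    refine (congrArg (CohFound.pushStalk q F y) (M1.germ_naturality _ U (q y) hU s)).trans ?_
    refine (CohFound.pushStalk_germ q F y U hU _).trans ?_
    refine Eq.trans ?_ (congrArg (sm F c y) (CohFound.pushStalk_germ q F y U hU s)).symm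
    exact (M1.germ_naturality (Formal.smulMod A F c) (q ⁻¹ᵁ U) y hU s).symm
  obtain ⟨v, hv⟩ := (M1.exact_iff_stalk_eq_zero _).1 hex y (CohFound.pushStalk q F y z)
    (((hnat b z).symm.trans (congrArg _ hz)).trans (map_zero _))
  obtain ⟨v', rfl⟩ := (CohFound.bijective_pushStalk q F y).2 v
  exact ⟨v', (CohFound.bijective_pushStalk q F y).1 ((hnat a v').trans hv)⟩

end Groth.Agent.ComplFormalH7
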